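/-
The symplectic group as a subgroup of the general linear group.
-/
import Cfsg.Agent.Lib.IsotropicSymp
import Cfsg.Prelude.Def_ClassicalGeometry
import Cfsg.Agent.S0245

set_option autoImplicit false
set_option linter.unusedSectionVars false

namespace CfsgLib.TensorElusive

open scoped Matrix

universe u

variable {F : Type u} [Field F] {d : ℕ}

/-- A symplectic matrix as an invertible matrix. -/
def glS : Matrix.symplecticGroup (Fin d) F →* GL (Fin d ⊕ Fin d) F :=
  (Units.map (Matrix.symplecticGroup (Fin d) F).subtype).comp toUnits.toMonoidHom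

theorem glS_mem (g : Matrix.symplecticGroup (Fin d) F) : glS g ∈ Cfsg.spGL d F :=
  fun u v => CfsgLib.IsotropicCount.symp_preserves g u v

theorem exists_glS {g : GL (Fin d ⊕ Fin d) F} (hg : g ∈ Cfsg.spGL d F) : ∃ g₀, glS g₀ = g := by
  refine ⟨⟨(g : Matrix (Fin d ⊕ Fin d) (Fin d ⊕ Fin d) F), SymplecticGroup.mem_iff'.mpr ?_⟩, Units.ext rfl⟩
  refine (Matrix.toBilin' (R₁ := F)).injective (LinearMap.ext₂ fun u v => ?_)
  rw [Matrix.toBilin'_apply', Matrix.toBilin'_apply', ← Matrix.mulVec_mulVec, ← Matrix.mulVec_mulVec,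
    Matrix.dotProduct_mulVec, Matrix.vecMul_transpose]
  exact hg u v

theorem exists_pow_sub_one [Fintype F] {r : ℕ} (hr : r.Prime) (hrq : ¬ r ∣ Fintype.card F)
    (h : r ∣ Nat.card ↥(Cfsg.spGL d F)) : ∃ l, 1 ≤ l ∧ l ≤ d ∧ r ∣ Fintype.card F ^ (2 * l) - 1 := by
  have he : Function.Bijective (fun g : Matrix.symplecticGroup (Fin d) F => (⟨glS g, glS_mem g⟩ : Cfsg.spGL d F)) := by
    refine ⟨fun g₁ g₂ e => Subtype.ext (congrArg (fun y : Cfsg.spGL d F => (y.1 : Matrix (Fin d ⊕ Fin d) (Fin d ⊕ Fin d) F)) e),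
      fun g => ?_⟩
    obtain ⟨g₀, hg₀⟩ := exists_glS g.2
    exact ⟨g₀, Subtype.ext hg₀⟩
  rw [← Nat.card_eq_of_bijective _ he, Cfsg.Agent.S0245.result rfl] at h
  rcases hr.dvd_mul.mp h with h | h
  · exact absurd (hr.dvd_of_dvd_pow h) hrq
  · obtain ⟨i, hi, hi'⟩ := (hr.prime.dvd_finsetProd_iff _).mp h
    exact ⟨i + 1, by omega, Finset.mem_range.mp hi, hi'⟩

end CfsgLib.TensorElusive
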