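/-
Ranks of polynomials in Kronecker products.
-/
import Cfsg.Agent.Lib.MaxSub.ElusiveImprim
import Cfsg.Prelude.Def_GeometricClasses

set_option autoImplicit false
set_option linter.unusedSectionVars false

namespace CfsgLib.TensorElusive

open Polynomial Module
open scoped Kronecker Matrix

universe u

variable {F : Type u} [Field F] {a b : ℕ}

theorem kronecker_pow (A : Matrix (Fin a) (Fin a) F) (B : Matrix (Fin b) (Fin b) F) (k : ℕ) :
    (A ⊗ₖ B) ^ k = (A ^ k) ⊗ₖ (B ^ k) := by
  induction k with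
  | zero => rw [pow_zero, pow_zero, pow_zero, Matrix.one_kronecker_one]
  | succ k ih => rw [pow_succ, pow_succ, pow_succ, ih, Matrix.mul_kronecker_mul]

/-- The second factor as a map of algebras. -/
def rightHom (a : ℕ) : Matrix (Fin b) (Fin b) F →ₐ[F] Matrix (Fin a × Fin b) (Fin a × Fin b) F where
  toFun C := (1 : Matrix (Fin a) (Fin a) F) ⊗ₖ C
  map_one' := Matrix.one_kronecker_one
  map_mul' C D := by rw [← Matrix.mul_kronecker_mul, mul_one]
  map_zero' := Matrix.kronecker_zero _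
  map_add' C D := Matrix.kronecker_add _ _ _
  commutes' c := by
    rw [Algebra.algebraMap_eq_smul_one, Algebra.algebraMap_eq_smul_one, Matrix.kronecker_smul, Matrix.one_kronecker_one]

theorem rank_one_kronecker (C : Matrix (Fin b) (Fin b) F) :
    ((1 : Matrix (Fin a) (Fin a) F) ⊗ₖ C).rank = a * C.rank := by
  have happ : ∀ (v : Fin a × Fin b → F) i, (fun j => (((1 : Matrix (Fin a) (Fin a) F) ⊗ₖ C) *ᵥ v) (i, j)) =
      C *ᵥ fun j => v (i, j) := fun v i => funext fun j => by
    simp [Matrix.mulVec, dotProduct, Fintype.sum_prod_type, Matrix.kroneckerMap_apply, Matrix.one_apply, ite_mul,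
      Finset.sum_ite_irrel, Finset.sum_ite_eq]
  let E : LinearMap.range (((1 : Matrix (Fin a) (Fin a) F) ⊗ₖ C).mulVecLin) ≃ₗ[F] (Fin a → LinearMap.range C.mulVecLin) :=
    { toFun := fun w i => ⟨fun j => w.1 (i, j), by
        obtain ⟨v, hv⟩ := w.2
        exact ⟨fun j => v (i, j), by rw [Matrix.mulVecLin_apply, ← happ, ← hv]; rfl⟩⟩
      invFun := fun w => ⟨fun q => (w q.1).1 q.2, by
        choose v hv using fun i => (w i).2
        refine ⟨fun q => v q.1 q.2, funext fun q => ?_⟩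
        rw [← hv q.1]
        exact congrFun (happ (fun q => v q.1 q.2) q.1) q.2⟩
      map_add' := fun _ _ => rfl
      map_smul' := fun _ _ => rfl
      left_inv := fun _ => rfl
      right_inv := fun _ => rfl }
  rw [Matrix.rank, E.finrank_eq, Module.finrank_pi_fintype, Finset.sum_const, Finset.card_univ, Fintype.card_fin,
    smul_eq_mul, Matrix.rank]

theorem exists_pair_of_not_scalar (A : Matrix (Fin a) (Fin a) F) (h : ∀ α : F, A ≠ α • 1) :
    ∃ u c : Fin a → F, u ⬝ᵥ c = 0 ∧ u ⬝ᵥ (A *ᵥ c) ≠ 0 := by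
  classical
  by_cases hd : ∃ i j, i ≠ j ∧ A i j ≠ 0
  · obtain ⟨i, j, hij, hA⟩ := hd
    exact ⟨Pi.single i 1, Pi.single j 1, by simp [Pi.single_eq_of_ne hij.symm], by simpa⟩
  push Not at hd
  by_cases hd2 : ∃ i j, A i i ≠ A j j
  · obtain ⟨i, j, hA⟩ := hd2
    have hij : i ≠ j := fun e => hA (e ▸ rfl)
    refine ⟨Pi.single i 1 + Pi.single j 1, Pi.single i 1 - Pi.single j 1, by
      simp [Pi.single_eq_of_ne hij, Pi.single_eq_of_ne hij.symm], ?_⟩
    simp [Matrix.mulVec_sub, hd _ _ hij, hd _ _ hij.symm]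
    intro e
    exact hA (by linear_combination e)
  push Not at hd2
  rcases isEmpty_or_nonempty (Fin a) with he | ⟨⟨i₀⟩⟩
  · exact absurd (Matrix.ext fun i => isEmptyElim i) (h 0)
  refine absurd (Matrix.ext fun i j => ?_) (h (A i₀ i₀))
  rcases eq_or_ne i j with rfl | hij
  · simp [hd2 i i₀]
  · simp [hd i j hij, hij]

theorem le_rank_kronecker_sub (A : Matrix (Fin a) (Fin a) F) (hA : ∀ α : F, A ≠ α • 1)
    (B : GL (Fin b) F) (z : F) :
    b ≤ (A ⊗ₖ (B : Matrix (Fin b) (Fin b) F) - z • 1).rank := by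
  classical
  obtain ⟨u, c, huc, huAc⟩ := exists_pair_of_not_scalar A hA
  let Φ : (Fin a × Fin b → F) →ₗ[F] (Fin b → F) :=
    { toFun := fun y j => ∑ i, u i * y (i, j)
      map_add' := fun y y' => funext fun j => by simp [mul_add, Finset.sum_add_distrib]
      map_smul' := fun s y => funext fun j => by simp [Finset.mul_sum, mul_left_comm] }
  set M := A ⊗ₖ (B : Matrix (Fin b) (Fin b) F) - z • 1 with hMdef
  have hsurj : Function.Surjective (Φ.comp M.mulVecLin) := by
    intro w
    set y : Fin b → F := (u ⬝ᵥ (A *ᵥ c))⁻¹ • (((B⁻¹ : GL (Fin b) F) : Matrix (Fin b) (Fin b) F) *ᵥ w) with hy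
    refine ⟨fun q => c q.1 * y q.2, funext fun j => ?_⟩
    have h1 : ∀ i, (M *ᵥ fun q => c q.1 * y q.2) (i, j) =
        (A *ᵥ c) i * ((B : Matrix (Fin b) (Fin b) F) *ᵥ y) j - z * (c i * y j) := fun i => by
      rw [hMdef, Matrix.sub_mulVec, Matrix.smul_mulVec, Matrix.one_mulVec, Pi.sub_apply, Pi.smul_apply, smul_eq_mul]
      congr 1
      simp only [Matrix.mulVec, dotProduct, Matrix.kroneckerMap_apply, Fintype.sum_prod_type, Finset.sum_mul,
        Finset.mul_sum]
      rw [Finset.sum_comm]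
      exact Finset.sum_congr rfl fun _ _ => Finset.sum_congr rfl fun _ _ => by ring
    show ∑ i, u i * (M *ᵥ fun q => c q.1 * y q.2) (i, j) = w j
    simp only [h1, mul_sub, Finset.sum_sub_distrib, ← mul_assoc, ← Finset.sum_mul]
    change (u ⬝ᵥ (A *ᵥ c)) * _ - _ = w j
    rw [show ∑ i, u i * z * c i = z * (u ⬝ᵥ c) by
      rw [dotProduct, Finset.mul_sum]; exact Finset.sum_congr rfl fun _ _ => by ring, huc, mul_zero, zero_mul, sub_zero,
      hy, Matrix.mulVec_smul, Matrix.mulVec_mulVec, ← Units.val_mul, mul_inv_cancel, Units.val_one, Matrix.one_mulVec,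
      Pi.smul_apply, smul_eq_mul, mul_inv_cancel_left₀ huAc]
  calc b = finrank F (LinearMap.range (Φ.comp M.mulVecLin)) := by
        rw [LinearMap.range_eq_top.mpr hsurj, finrank_top, Module.finrank_fin_fun]
    _ ≤ M.rank := by
        rw [LinearMap.range_comp]
        exact Submodule.finrank_map_le _ _

variable {ι : Type} [Fintype ι] [DecidableEq ι]

/-- Conjugates into a tensor stabiliser have the ranks of a Kronecker product. -/
theorem ranks_of_conj (e : ι ≃ Fin a × Fin b) (P g x : GL (ι) F)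
    (h : g⁻¹ * x * g ∈ Cfsg.Geo.tensorProductSubgroup a b e P) :
    ∃ (A : GL (Fin a) F) (B : GL (Fin b) F), ∀ Q : F[X],
      (aeval (x : Matrix (ι) (ι) F) Q).rank =
        (aeval ((A : Matrix (Fin a) (Fin a) F) ⊗ₖ (B : Matrix (Fin b) (Fin b) F)) Q).rank := by
  obtain ⟨y, ⟨k, ⟨A, B, hAB⟩, hy⟩, hyx⟩ := h
  refine ⟨A, B, fun Q => ?_⟩
  subst hy
  set U := g * P
  have hx : x = U * Cfsg.Geo.glReindex e.symm k * U⁻¹ := by
    have h2 : P * Cfsg.Geo.glReindex e.symm k * P⁻¹ = g⁻¹ * x * g := hyx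
    rw [show U = g * P from rfl]
    calc x = g * (g⁻¹ * x * g) * g⁻¹ := by group
      _ = _ := by rw [← h2]; group
  have hr : (Cfsg.Geo.glReindex e.symm k : Matrix (ι) (ι) F) =
      Matrix.reindexAlgEquiv F F e.symm ((A : Matrix (Fin a) (Fin a) F) ⊗ₖ (B : Matrix (Fin b) (Fin b) F)) := by
    rw [← hAB]; rfl
  have hconj : ∀ (m : Matrix (ι) (ι) F),
      aeval ((U : Matrix (ι) (ι) F) * m * ((U⁻¹ : GL (ι) F) : Matrix (ι) (ι) F)) Q =
        (U : Matrix (ι) (ι) F) * aeval m Q * ((U⁻¹ : GL (ι) F) : Matrix (ι) (ι) F) := fun m => by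
    induction Q using Polynomial.induction_on' with
    | add p q hp hq => rw [map_add, hp, hq, map_add, Matrix.mul_add, Matrix.add_mul]
    | monomial k c =>
      rw [aeval_monomial, aeval_monomial, Units.conj_pow, Algebra.algebraMap_eq_smul_one, smul_mul_assoc, smul_mul_assoc,
        one_mul, one_mul, mul_smul_comm, smul_mul_assoc]
  rw [hx, Units.val_mul, Units.val_mul, hconj, hr, Polynomial.aeval_algHom_apply,
    Matrix.rank_mul_eq_left_of_isUnit_det _ _ (Matrix.isUnits_det_units _),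
    Matrix.rank_mul_eq_right_of_isUnit_det _ _ (Matrix.isUnits_det_units _),
    Matrix.coe_reindexAlgEquiv, Matrix.rank_reindex]

/-- A Kronecker product with scalar first factor. -/
theorem scalar_left (A : Matrix (Fin a) (Fin a) F) {α : F} (hA : A = α • 1) (B : Matrix (Fin b) (Fin b) F) (Q : F[X]) :
    (aeval (A ⊗ₖ B) Q).rank = a * (aeval (α • B) Q).rank := by
  rw [hA, Matrix.smul_kronecker, ← Matrix.kronecker_smul, ← rank_one_kronecker (a := a)]
  exact congrArg Matrix.rank (Polynomial.aeval_algHom_apply (rightHom a) (α • B) Q)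

end CfsgLib.TensorElusive
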