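/-
A lower bound for the rank of `A ⊗ B - 1` for factors of prime period.
-/
import Cfsg.Agent.Lib.TensorElusive.Rank
import Cfsg.Agent.Lib.MaxSub.Elusive

set_option autoImplicit false
set_option linter.unusedSectionVars false

namespace CfsgLib.TensorElusive

open Polynomial Module CfsgLib.MaxSub.Elusive
open scoped Kronecker Matrix

universe u v w

variable {F : Type u} [Field F] [Fintype F] {p r : ℕ} [Fact p.Prime] [CharP F p]

section

variable {U : Type v} [AddCommGroup U] [Module F U] [FiniteDimensional F U]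
variable {V : Type w} [AddCommGroup V] [Module F V] [FiniteDimensional F V]

/-- The moved part is generated by few vectors. -/
theorem exists_generators (hr : r.Prime) (hrp : r ≠ p) (C : Module.End F V) (hC : C ^ r = 1) {t : ℕ}
    (ht : finrank F (LinearMap.range (C - 1)) = t * orderOf (Fintype.card F : ZMod r)) :
    ∃ f : Fin t → LinearMap.range (C - 1), ∀ W : Submodule F V, (∀ v ∈ W, C v ∈ W) → (∀ j, (f j : V) ∈ W) →
      LinearMap.range (C - 1) ≤ W := by
  classical
  set i := orderOf (Fintype.card F : ZMod r)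
  set R := LinearMap.range (C - 1) with hRdef
  suffices h : ∀ k ≤ t, ∃ f : Fin k → R, ∀ W : Submodule F V, (∀ v ∈ W, C v ∈ W) → (∀ j, (f j : V) ∈ W) →
      k * i ≤ finrank F ↥(R ⊓ W) by
    obtain ⟨f, hf⟩ := h t le_rfl
    refine ⟨f, fun W hW hfW => ?_⟩
    rw [← Submodule.eq_of_le_of_finrank_le (inf_le_left : R ⊓ W ≤ R) (by rw [ht]; exact hf W hW hfW)]
    exact inf_le_right
  intro k hk
  induction k with
  | zero => exact ⟨Fin.elim0, fun W _ _ => by simp⟩
  | succ k ih =>
    obtain ⟨f, hf⟩ := ih (by omega)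
    let S : Set (Submodule F V) := {W | (∀ v ∈ W, C v ∈ W) ∧ ∀ j, (f j : V) ∈ W}
    let W0 := sInf S
    have hW0 : (∀ v ∈ W0, C v ∈ W0) ∧ ∀ j, (f j : V) ∈ W0 :=
      ⟨fun v hv => Submodule.mem_sInf.mpr fun W hW => hW.1 v (Submodule.mem_sInf.mp hv W hW),
        fun j => Submodule.mem_sInf.mpr fun W hW => hW.2 j⟩
    have hinv : ∀ W : Submodule F V, (∀ v ∈ W, C v ∈ W) → ∀ v ∈ R ⊓ W, C v ∈ R ⊓ W := fun W hW v hv => by
      obtain ⟨⟨w, rfl⟩, hv'⟩ := hv
      exact ⟨⟨C w, by simp⟩, hW _ hv'⟩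
    by_cases hall : R ≤ W0
    · refine ⟨Fin.snoc f 0, fun W hW hfW => ?_⟩
      have hle : W0 ≤ W := sInf_le ⟨hW, fun j => by simpa using hfW j.castSucc⟩
      rw [inf_eq_left.mpr (hall.trans hle), ht]
      exact Nat.mul_le_mul_right i hk
    obtain ⟨x, hx, hxW⟩ := SetLike.not_le_iff_exists.mp hall
    refine ⟨Fin.snoc f ⟨x, hx⟩, fun W hW hfW => ?_⟩
    have hle : W0 ≤ W := sInf_le ⟨hW, fun j => by simpa using hfW j.castSucc⟩
    have hxW' : x ∈ W := by simpa using hfW (Fin.last k)
    have hlt : finrank F ↥(R ⊓ W0) < finrank F ↥(R ⊓ W) := Submodule.finrank_lt_finrank_of_lt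
      (lt_of_le_of_ne (inf_le_inf_left R hle) fun h => hxW (h.ge ⟨hx, hxW'⟩).2)
    have h1 := hf W0 hW0.1 hW0.2
    obtain ⟨a₀, ha₀⟩ := (dims_in_range (p := p) C hr hrp hC (R ⊓ W0) inf_le_left (hinv W0 hW0.1)).1
    obtain ⟨a, ha⟩ := (dims_in_range (p := p) C hr hrp hC (R ⊓ W) inf_le_left (hinv W hW)).1
    rw [ha₀] at h1 hlt
    rw [ha] at hlt ⊢
    have hi : 0 < i := Nat.pos_of_ne_zero fun h => by simp [i, h] at hlt
    have h2 : a₀ < a := Nat.lt_of_mul_lt_mul_left hlt
    rw [mul_comm i a₀] at h1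
    have h3 : k ≤ a₀ := Nat.le_of_mul_le_mul_right h1 hi
    rw [mul_comm i a]
    exact Nat.mul_le_mul_right i (by omega)

/-- The intertwiners of two maps. -/
def Intw (A : Module.End F U) (C : Module.End F V) : Submodule F (V →ₗ[F] U) where
  carrier := {X | A ∘ₗ X = X ∘ₗ C}
  zero_mem' := by simp
  add_mem' {X Y} hX hY := by
    rw [Set.mem_ofPred_eq] at *
    rw [LinearMap.comp_add, LinearMap.add_comp, hX, hY]
  smul_mem' c X hX := by
    rw [Set.mem_ofPred_eq] at *
    rw [LinearMap.comp_smul, LinearMap.smul_comp, hX]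

theorem intertwiner_bound (hr : r.Prime) (hrp : r ≠ p) (A : Module.End F U) (C : Module.End F V) (hC : C ^ r = 1) {t : ℕ}
    (ht : finrank F (LinearMap.range (C - 1)) = t * orderOf (Fintype.card F : ZMod r)) :
    finrank F (Intw A C) ≤ finrank F (LinearMap.ker (C - 1)) * finrank F (LinearMap.ker (A - 1)) +
      t * finrank F (LinearMap.range (A - 1)) := by
  classical
  obtain ⟨f, hf⟩ := exists_generators (p := p) hr hrp C hC ht
  have hcomm : ∀ (X : Intw A C) (v : V), A (X.1 v) = X.1 (C v) := fun X v => LinearMap.congr_fun X.2 v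
  have hfix : ∀ (X : Intw A C) (v : LinearMap.ker (C - 1)), X.1 v.1 ∈ LinearMap.ker (A - 1) := fun X v => by
    have hv : C v.1 = v.1 := sub_eq_zero.mp v.2
    rw [LinearMap.mem_ker, LinearMap.sub_apply, Module.End.one_apply, hcomm, hv, sub_self]
  have hmov : ∀ (X : Intw A C) (v : LinearMap.range (C - 1)), X.1 v.1 ∈ LinearMap.range (A - 1) := fun X v => by
    obtain ⟨w, hw⟩ := v.2
    exact ⟨X.1 w, by rw [← hw]; simp [hcomm]⟩
  let Φ : Intw A C →ₗ[F] (LinearMap.ker (C - 1) →ₗ[F] LinearMap.ker (A - 1)) × (Fin t → LinearMap.range (A - 1)) :=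
    { toFun := fun X => ((X.1.comp (LinearMap.ker (C - 1)).subtype).codRestrict _ (hfix X),
        fun j => ⟨X.1 (f j).1, hmov X _⟩)
      map_add' := fun X Y => Prod.ext (LinearMap.ext fun v => Subtype.ext rfl) (funext fun j => Subtype.ext rfl)
      map_smul' := fun c X => Prod.ext (LinearMap.ext fun v => Subtype.ext rfl) (funext fun j => Subtype.ext rfl) }
  have hinj : Function.Injective Φ := by
    refine (injective_iff_map_eq_zero Φ).mpr fun X hX => Subtype.ext ?_
    have h1 : ∀ v ∈ LinearMap.ker (C - 1), X.1 v = 0 := fun v hv =>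
      congrArg Subtype.val (LinearMap.congr_fun (congrArg Prod.fst hX) ⟨v, hv⟩)
    have h2 : LinearMap.range (C - 1) ≤ LinearMap.ker X.1 := hf _ (fun v hv => by
      rw [LinearMap.mem_ker] at hv ⊢
      rw [← hcomm, hv, map_zero]) fun j => congrArg Subtype.val (congrFun (congrArg Prod.snd hX) j)
    have htop : LinearMap.ker (C - 1) ⊔ LinearMap.range (C - 1) = ⊤ := by
      refine Submodule.eq_top_of_finrank_eq ?_
      have h := Submodule.finrank_sup_add_finrank_inf_eq (LinearMap.ker (C - 1)) (LinearMap.range (C - 1))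
      rw [ker_inf_range (p := p) C hr hrp hC, finrank_bot, add_zero] at h
      rw [h, add_comm, LinearMap.finrank_range_add_finrank_ker]
    rw [show ((0 : Intw A C) : V →ₗ[F] U) = 0 from rfl, ← LinearMap.ker_eq_top, eq_top_iff, ← htop]
    exact sup_le h1 h2
  refine (LinearMap.finrank_le_finrank_of_injective hinj).trans (le_of_eq ?_)
  rw [Module.finrank_prod, Module.finrank_linearMap, Module.finrank_pi_fintype, Finset.sum_const, Finset.card_univ,
    Fintype.card_fin, smul_eq_mul]

end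

variable {a b : ℕ}

/-- Kronecker products of factors of period `r` move many vectors. -/
theorem kronecker_rank_bound (hr : r.Prime) (hrp : r ≠ p) (A : Matrix (Fin a) (Fin a) F) (B : Matrix (Fin b) (Fin b) F)
    (hA : A ^ r = 1) (hB : B ^ r = 1) :
    ∃ s t : ℕ, s * orderOf (Fintype.card F : ZMod r) ≤ a ∧ t * orderOf (Fintype.card F : ZMod r) ≤ b ∧
      (A - 1).rank = s * orderOf (Fintype.card F : ZMod r) ∧ (s = 0 → A = 1) ∧ (t = 0 → B = 1) ∧
      a * b ≤ (A ⊗ₖ B - 1).rank + ((b - t * orderOf (Fintype.card F : ZMod r)) * (a - s * orderOf (Fintype.card F : ZMod r)) +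
        t * (s * orderOf (Fintype.card F : ZMod r))) := by
  classical
  set i := orderOf (Fintype.card F : ZMod r)
  have hBt : (B ^ (r - 1))ᵀ * Bᵀ = 1 := by
    rw [← Matrix.transpose_mul, ← pow_succ', Nat.sub_add_cancel hr.one_lt.le, hB, Matrix.transpose_one]
  set C := Matrix.toLinAlgEquiv' ((B ^ (r - 1))ᵀ) with hCdef
  set A' := Matrix.toLinAlgEquiv' A with hA'def
  have hC : C ^ r = 1 := by
    rw [hCdef, ← map_pow, ← Matrix.transpose_pow, ← pow_mul, mul_comm, pow_mul, hB, one_pow, Matrix.transpose_one, map_one]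
  have hA' : A' ^ r = 1 := by rw [hA'def, ← map_pow, hA, map_one]
  have hinv : ∀ {m : ℕ} (T : Module.End F (Fin m → F)), ∀ v ∈ LinearMap.range (T - 1), T v ∈ LinearMap.range (T - 1) := by
    rintro m T _ ⟨w, rfl⟩
    exact ⟨T w, by simp⟩
  obtain ⟨s, hs⟩ := (dims_in_range (p := p) A' hr hrp hA' _ le_rfl (hinv A')).1
  obtain ⟨t, ht⟩ := (dims_in_range (p := p) C hr hrp hC _ le_rfl (hinv C)).1
  change _ = i * s at hs
  change _ = i * t at ht
  rw [mul_comm] at hs ht
  have hrA : (A - 1).rank = s * i := by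
    rw [← hs, Matrix.rank, hA'def, ← map_one Matrix.toLinAlgEquiv', ← map_sub]
    rfl
  have hsA : s * i ≤ a := hrA ▸ (Matrix.rank_le_card_width _).trans (Fintype.card_fin a).le
  have h1 := LinearMap.finrank_range_add_finrank_ker (A' - 1)
  have h2 := LinearMap.finrank_range_add_finrank_ker (C - 1)
  rw [Module.finrank_fin_fun] at h1 h2
  have htb : t * i ≤ b := by rw [← ht]; omega
  refine ⟨s, t, hsA, htb, hrA, fun h0 => ?_, fun h0 => ?_, ?_⟩
  · rw [h0, zero_mul, Submodule.finrank_eq_zero, LinearMap.range_eq_bot] at hs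
    exact Matrix.toLinAlgEquiv'.injective (by rw [map_one]; exact sub_eq_zero.mp hs)
  · rw [h0, zero_mul, Submodule.finrank_eq_zero, LinearMap.range_eq_bot] at ht
    have h3 : (B ^ (r - 1))ᵀ = 1 := Matrix.toLinAlgEquiv'.injective (by rw [map_one]; exact sub_eq_zero.mp ht)
    rw [h3, one_mul] at hBt
    exact Matrix.transpose_eq_one.mp hBt
  set M := A ⊗ₖ B - 1
  have h3 := LinearMap.finrank_range_add_finrank_ker M.mulVecLin
  rw [Module.finrank_pi, Fintype.card_prod, Fintype.card_fin, Fintype.card_fin] at h3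
  let Ψ : (Fin a × Fin b → F) →ₗ[F] ((Fin b → F) →ₗ[F] (Fin a → F)) :=
    { toFun := fun v => Matrix.toLin' (Matrix.of fun i j => v (i, j))
      map_add' := fun v w => by rw [← map_add]; rfl
      map_smul' := fun c v => by rw [← map_smul]; rfl }
  have hΨ : ∀ v ∈ LinearMap.ker M.mulVecLin, Ψ v ∈ Intw A' C := fun v hv => by
    set X : Matrix (Fin a) (Fin b) F := Matrix.of fun i j => v (i, j)
    have hX : A * X * Bᵀ = X := Matrix.ext fun i j => by
      have h4 := congrFun hv (i, j)
      rw [Matrix.mulVecLin_apply, Matrix.sub_mulVec, Matrix.one_mulVec, Pi.sub_apply, Pi.zero_apply, sub_eq_zero] at h4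
      refine Eq.trans ?_ h4
      rw [Matrix.mul_apply]
      simp only [Matrix.mulVec, dotProduct, Matrix.kroneckerMap_apply, Fintype.sum_prod_type, Matrix.mul_apply,
        Matrix.transpose_apply, Finset.sum_mul, X, Matrix.of_apply]
      rw [Finset.sum_comm]
      exact Finset.sum_congr rfl fun _ _ => Finset.sum_congr rfl fun _ _ => by ring
    show A' ∘ₗ Matrix.toLin' X = Matrix.toLin' X ∘ₗ C
    have hX2 : X * (B ^ (r - 1))ᵀ = A * X := by
      conv_lhs => rw [← hX]
      rw [Matrix.mul_assoc, mul_eq_one_comm.mp hBt, Matrix.mul_one]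
    refine LinearMap.ext fun u => ?_
    show A *ᵥ (X *ᵥ u) = X *ᵥ ((B ^ (r - 1))ᵀ *ᵥ u)
    rw [Matrix.mulVec_mulVec, Matrix.mulVec_mulVec, hX2]
  have hinj : Function.Injective ((Ψ.comp (LinearMap.ker M.mulVecLin).subtype).codRestrict (Intw A' C)
      (fun v => hΨ v.1 v.2)) := fun v w h => Subtype.ext (funext fun x => by
    have h4 := Matrix.toLin'.injective (congrArg Subtype.val h)
    exact congrFun (congrFun h4 x.1) x.2)
  have h4 := (LinearMap.finrank_le_finrank_of_injective hinj).trans (intertwiner_bound (p := p) hr hrp A' C hC ht)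
  rw [hs, show finrank F (LinearMap.ker (A' - 1)) = a - s * i by omega,
    show finrank F (LinearMap.ker (C - 1)) = b - t * i by omega] at h4
  rw [Matrix.rank]
  omega

end CfsgLib.TensorElusive
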