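/-
Elements of prime order without conjugates in a tensor stabiliser.
-/
import Cfsg.Agent.Lib.TensorElusive.Rank
import Cfsg.Agent.Lib.MaxSub.ElusiveField

set_option autoImplicit false
set_option linter.unusedSectionVars false

namespace CfsgLib.TensorElusive

open Polynomial Module CfsgLib.MaxSub.Elusive
open scoped Kronecker Matrix

universe u

variable {F : Type u} [Field F] [Fintype F] {n a b : ℕ}

variable {ι : Type} [Fintype ι] [DecidableEq ι]

theorem rank_lin (x : Matrix (ι) (ι) F) (z : F) : aeval x (X - C z) = x - z • 1 := by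
  rw [map_sub, aeval_X, aeval_C, Algebra.algebraMap_eq_smul_one]

/-- Two eigenvalue defects exclude membership. -/
theorem not_mem_of_ranks (e : ι ≃ Fin a × Fin b) (P g x : GL (ι) F) {z₁ z₂ : F}
    (h₁ : ¬ a ∣ ((x : Matrix (ι) (ι) F) - z₁ • 1).rank) (h₂ : ((x : Matrix (ι) (ι) F) - z₂ • 1).rank < b) :
    g⁻¹ * x * g ∉ Cfsg.Geo.tensorProductSubgroup a b e P := by
  classical
  intro h
  obtain ⟨A, B, hAB⟩ := ranks_of_conj e P g x h
  by_cases hA : ∃ α : F, (A : Matrix (Fin a) (Fin a) F) = α • 1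
  · obtain ⟨α, hα⟩ := hA
    refine h₁ ?_
    rw [← rank_lin, hAB, scalar_left _ hα]
    exact dvd_mul_right _ _
  · push Not at hA
    have := hAB (X - C z₂)
    rw [rank_lin] at this
    rw [map_sub, aeval_X, aeval_C, Algebra.algebraMap_eq_smul_one] at this
    have h3 := le_rank_kronecker_sub (A : Matrix (Fin a) (Fin a) F) hA B z₂
    omega

theorem rank_diag_sub (d : ι → F) (z : F) [DecidableEq F] :
    (Matrix.diagonal d - z • 1).rank = (Finset.univ.filter fun i => d i ≠ z).card := by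
  rw [← Matrix.diagonal_one, ← Matrix.diagonal_smul, Matrix.diagonal_sub, Matrix.rank_diagonal, Fintype.card_subtype]
  exact congrArg Finset.card (Finset.filter_congr fun i _ => by simp [sub_eq_zero])

/-- An invertible matrix of determinant one as an element of the special linear group. -/
theorem exists_mem_special (M : Matrix (Fin n) (Fin n) F) (h : M.det = 1) :
    ∃ x ∈ Cfsg.Geo.specialLinear (Fin n) F, (x : Matrix (Fin n) (Fin n) F) = M := by
  refine ⟨Matrix.GeneralLinearGroup.mkOfDetNeZero M (by rw [h]; exact one_ne_zero), Units.ext ?_, rfl⟩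
  show M.det = 1
  exact h

/-- A bad element supplied by a matrix. -/
theorem bad_of_matrix (e : Fin n ≃ Fin a × Fin b) (P : GL (Fin n) F) {r : ℕ} (M : Matrix (Fin n) (Fin n) F)
    (hdet : M.det = 1) {z : F} (hpow : M ^ r = z • 1) {z₁ z₂ : F} (h₁ : ¬ a ∣ (M - z₁ • 1).rank)
    (h₂ : (M - z₂ • 1).rank < b) (hab : n = a * b) (_ha : 2 ≤ a) :
    ∃ x ∈ Cfsg.Geo.specialLinear (Fin n) F,
      (∃ z : F, ((x ^ r : GL (Fin n) F) : Matrix (Fin n) (Fin n) F) = z • 1) ∧
      (∀ z : F, (x : Matrix (Fin n) (Fin n) F) ≠ z • 1) ∧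
      ∀ g : GL (Fin n) F, g⁻¹ * x * g ∉ Cfsg.Geo.tensorProductSubgroup a b e P := by
  obtain ⟨x, hx, hxM⟩ := exists_mem_special M hdet
  refine ⟨x, hx, ⟨z, by rw [Units.val_pow_eq_pow_val, hxM, hpow]⟩, fun w hw => h₁ ?_,
    fun g => not_mem_of_ranks e P g x (z₁ := z₁) (z₂ := z₂) (by rwa [hxM]) (by rwa [hxM])⟩
  rw [← hxM, hw, ← sub_smul]
  by_cases h0 : w - z₁ = 0
  · rw [h0, zero_smul, Matrix.rank_zero]
    exact dvd_zero a
  · rw [Matrix.rank_of_isUnit _ ((Matrix.isUnit_iff_isUnit_det _).mpr (by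
      rw [Matrix.det_smul, Matrix.det_one, mul_one]; exact (isUnit_iff_ne_zero.mpr h0).pow _)), Fintype.card_fin, hab]
    exact dvd_mul_right a b

variable {p r : ℕ} [Fact p.Prime] [CharP F p] [Fact r.Prime]

theorem filter_lt_card {m : ℕ} (hm : m ≤ n) : (Finset.univ.filter fun i : Fin n => (i : ℕ) < m).card = m := by
  rw [Fin.card_filter_val_lt, Nat.min_eq_right hm]

/-- A transvection. -/
theorem bad_char (e : Fin n ≃ Fin a × Fin b) (P : GL (Fin n) F) (hab : n = a * b) (ha : 2 ≤ a) (hlt : a < b) :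
    ∃ x ∈ Cfsg.Geo.specialLinear (Fin n) F,
      (∃ z : F, ((x ^ p : GL (Fin n) F) : Matrix (Fin n) (Fin n) F) = z • 1) ∧
      (∀ z : F, (x : Matrix (Fin n) (Fin n) F) ≠ z • 1) ∧
      ∀ g : GL (Fin n) F, g⁻¹ * x * g ∉ Cfsg.Geo.tensorProductSubgroup a b e P := by
  classical
  have hn : 2 * 3 ≤ n := hab ▸ Nat.mul_le_mul ha (by omega)
  let i0 : Fin n := ⟨0, by omega⟩
  let i1 : Fin n := ⟨1, by omega⟩
  have h01 : i0 ≠ i1 := by simp [i0, i1]
  have hsub : Matrix.transvection i0 i1 (1 : F) - (1 : F) • 1 = Matrix.single i0 i1 (1 : F) := by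
    rw [one_smul, Matrix.transvection, add_sub_cancel_left]
  have hrk : (Matrix.single i0 i1 (1 : F)).rank = 1 := by
    have hr : LinearMap.range (Matrix.single i0 i1 (1 : F)).mulVecLin = Submodule.span F {Pi.single i0 (1 : F)} := by
      refine le_antisymm ?_ ((Submodule.span_singleton_le_iff_mem _ _).mpr ⟨Pi.single i1 1, by
        funext j
        simp [Matrix.single_apply, Pi.single_apply, eq_comm]⟩)
      rintro _ ⟨v, rfl⟩
      refine Submodule.mem_span_singleton.mpr ⟨v i1, ?_⟩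
      funext j
      simp [Matrix.single_mulVec, Pi.single_apply, Function.update_apply]
    rw [Matrix.rank, hr, finrank_span_singleton (by simp)]
  have hpow : ∀ k : ℕ, Matrix.transvection i0 i1 (1 : F) ^ k = Matrix.transvection i0 i1 (k : F) := fun k => by
    induction k with
    | zero => simp
    | succ k ih => rw [pow_succ, ih, Matrix.transvection_mul_transvection_same _ _ h01, Nat.cast_succ]
  refine bad_of_matrix e P (Matrix.transvection i0 i1 (1 : F)) (Matrix.det_transvection_of_ne _ _ h01 _) (z := 1) ?_ (z₁ := 1) (z₂ := 1) ?_ ?_ hab ha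
  · rw [hpow, CharP.cast_eq_zero, Matrix.transvection_zero, one_smul]
  · rw [hsub, hrk, Nat.dvd_one]; omega
  · rw [hsub, hrk]; omega

/-- Diagonal elements. -/
theorem bad_split (e : Fin n ≃ Fin a × Fin b) (P : GL (Fin n) F) (hab : n = a * b) (ha : 2 ≤ a) (hlt : a < b)
    (hrp : r ≠ p) (hrq : r ∣ Fintype.card F - 1)
    (hcond : ¬ (r = 2 ∧ a = 2 ∧ Odd (Fintype.card F) ∧ padicValNat 2 (Fintype.card F - 1) ≤ padicValNat 2 n)) :
    ∃ x ∈ Cfsg.Geo.specialLinear (Fin n) F,
      (∃ z : F, ((x ^ r : GL (Fin n) F) : Matrix (Fin n) (Fin n) F) = z • 1) ∧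
      (∀ z : F, (x : Matrix (Fin n) (Fin n) F) ≠ z • 1) ∧
      ∀ g : GL (Fin n) F, g⁻¹ * x * g ∉ Cfsg.Geo.tensorProductSubgroup a b e P := by
  classical
  have hr : r.Prime := Fact.out
  have hn : 2 * 3 ≤ n := hab ▸ Nat.mul_le_mul ha (by omega)
  let i0 : Fin n := ⟨0, by omega⟩
  let i1 : Fin n := ⟨1, by omega⟩
  have h01 : i0 ≠ i1 := by simp [i0, i1]
  obtain ⟨ω, hω⟩ : ∃ ω : Fˣ, orderOf ω = r :=
    exists_prime_orderOf_dvd_card' r (by rwa [Nat.card_units, Nat.card_eq_fintype_card])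
  have hωr : (ω : F) ^ r = 1 := by rw [← Units.val_pow_eq_pow_val, ← hω, pow_orderOf_eq_one, Units.val_one]
  have hω1 : (ω : F) ≠ 1 := fun h => by
    rw [Units.val_eq_one] at h
    rw [h, orderOf_one] at hω
    exact hr.ne_one hω.symm
  by_cases hsp : r = 2 ∧ a = 2
  · obtain ⟨rfl, rfl⟩ := hsp
    have hodd : Odd (Fintype.card F) := by
      have := Fintype.one_lt_card (α := F)
      rw [Nat.odd_iff]; omega
    have hlt2 : padicValNat 2 n < padicValNat 2 (Fintype.card F - 1) := by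
      by_contra h
      exact hcond ⟨rfl, rfl, hodd, by omega⟩
    set v := padicValNat 2 n
    have hq1 : Fintype.card F - 1 ≠ 0 := by have := Fintype.one_lt_card (α := F); omega
    have hv1 : 2 ^ (v + 1) ∣ Fintype.card F - 1 := (padicValNat_dvd_iff_le hq1).mpr hlt2
    obtain ⟨s, hs⟩ : ∃ s : Fˣ, orderOf s = 2 ^ (v + 1) := by
      obtain ⟨ζ, hζ⟩ := IsCyclic.exists_ofOrder_eq_natCard (α := Fˣ)
      rw [Nat.card_units, Nat.card_eq_fintype_card] at hζ
      refine ⟨ζ ^ ((Fintype.card F - 1) / 2 ^ (v + 1)), ?_⟩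
      rw [orderOf_pow_of_dvd ((Nat.div_ne_zero_iff_of_dvd hv1).mpr ⟨hq1, pow_ne_zero _ two_ne_zero⟩)
        (by rw [hζ]; exact Nat.div_dvd_of_dvd hv1), hζ, Nat.div_div_self hv1 hq1]
    have hsn : (s : F) ^ n = -1 := by
      have h1 : ((s : F) ^ n) ^ 2 = 1 := by
        rw [← Units.val_pow_eq_pow_val, ← Units.val_pow_eq_pow_val, ← pow_mul,
          orderOf_dvd_iff_pow_eq_one.mp (by rw [hs, pow_succ]; exact Nat.mul_dvd_mul_right pow_padicValNat_dvd 2),
          Units.val_one]
      refine (sq_eq_one_iff.mp h1).resolve_left fun h => ?_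
      have h' : s ^ n = 1 := Units.ext (by rw [Units.val_pow_eq_pow_val, h, Units.val_one])
      have := orderOf_dvd_of_pow_eq_one h'
      rw [hs, padicValNat_dvd_iff_le (by omega)] at this
      omega
    let d : Fin n → F := fun i => if i = i0 then -(s : F) else s
    have hne : -(s : F) ≠ s := fun h => by
      have h2 : (2 : F) * s = 0 := by linear_combination -h
      rcases mul_eq_zero.mp h2 with h3 | h3
      · exact CfsgLib.GLClassNumber.natCast_ne_zero_of_prime_ne (F := F) (p := p) Nat.prime_two hrp (by exact_mod_cast h3)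
      · exact Units.ne_zero s h3
    have hrk : (Matrix.diagonal d - (s : F) • 1).rank = 1 := by
      rw [rank_diag_sub, show (Finset.univ.filter fun i => d i ≠ (s : F)) = {i0} by
        ext i
        by_cases h : i = i0 <;> simp [d, h, hne], Finset.card_singleton]
    refine bad_of_matrix e P (Matrix.diagonal d) ?_ (z := (s : F) ^ 2) ?_ (z₁ := s) (z₂ := s) (by rw [hrk]; omega)
      (by rw [hrk]; omega) hab ha
    · rw [Matrix.det_diagonal, ← Finset.mul_prod_erase _ _ (Finset.mem_univ i0),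
        Finset.prod_eq_pow_card (b := (s : F)) (fun i hi => by simp [d, (Finset.mem_erase.mp hi).1]),
        Finset.card_erase_of_mem (Finset.mem_univ _), Finset.card_univ, Fintype.card_fin]
      simp only [d, if_true]
      rw [neg_mul, ← pow_succ', Nat.sub_add_cancel (by omega : 1 ≤ n), hsn, neg_neg]
    · rw [Matrix.diagonal_pow, ← Matrix.diagonal_one, ← Matrix.diagonal_smul]
      congr 1
      funext i
      by_cases h : i = i0 <;> simp [d, h]
  let d : Fin n → F := fun i => if i = i0 then (ω : F) else if i = i1 then (ω : F)⁻¹ else 1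
  have hinv1 : (ω : F)⁻¹ ≠ 1 := fun h => hω1 (inv_eq_one.mp h)
  have hrk1 : (Matrix.diagonal d - (1 : F) • 1).rank = 2 := by
    rw [rank_diag_sub, show (Finset.univ.filter fun i => d i ≠ 1) = {i0, i1} by
      ext i
      by_cases h : i = i0
      · simp [d, h, hω1]
      · by_cases h' : i = i1 <;> simp [d, h, h', hinv1, h01.symm], Finset.card_pair h01]
  have hdet : (Matrix.diagonal d).det = 1 := by
    rw [Matrix.det_diagonal, ← Finset.prod_subset (Finset.subset_univ {i0, i1}) (fun i _ hi => by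
      simp only [Finset.mem_insert, Finset.mem_singleton, not_or] at hi
      simp [d, hi.1, hi.2]), Finset.prod_pair h01]
    simp [d, h01.symm]
  have hpow : Matrix.diagonal d ^ r = (1 : F) • 1 := by
    rw [Matrix.diagonal_pow, one_smul, ← Matrix.diagonal_one]
    congr 1
    funext i
    simp only [d, Pi.pow_apply]
    split_ifs <;> simp [inv_pow, hωr]
  obtain ⟨z, hz⟩ : ∃ z : F, ¬ a ∣ (Matrix.diagonal d - z • 1).rank := by
    by_cases ha2 : a = 2
    · refine ⟨ω, ?_⟩
      have hne : (ω : F)⁻¹ ≠ ω := fun h => by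
        have h2 : (ω : F) ^ 2 = 1 := by rw [pow_two]; nth_rw 1 [← h]; exact inv_mul_cancel₀ (Units.ne_zero ω)
        have h3 : ω ^ 2 = 1 := Units.ext (by rw [Units.val_pow_eq_pow_val, h2, Units.val_one])
        have := Nat.le_of_dvd two_pos (hω ▸ orderOf_dvd_of_pow_eq_one h3)
        exact hsp ⟨le_antisymm this hr.two_le, ha2⟩
      rw [rank_diag_sub, show (Finset.univ.filter fun i => d i ≠ (ω : F)) = Finset.univ.erase i0 by
        ext i
        by_cases h : i = i0
        · simp [d, h]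
        · by_cases h' : i = i1 <;> simp [d, h, h', hne, Ne.symm hω1, h01.symm], Finset.card_erase_of_mem (Finset.mem_univ _),
        Finset.card_univ, Fintype.card_fin, ha2]
      subst ha2
      omega
    · exact ⟨1, by rw [hrk1]; intro h; have := Nat.le_of_dvd two_pos h; omega⟩
  exact bad_of_matrix e P (Matrix.diagonal d) hdet hpow hz (z₂ := 1) (by rw [hrk1]; omega) hab ha

/-- One irreducible block. -/
theorem bad_nonsplit (e : Fin n ≃ Fin a × Fin b) (P : GL (Fin n) F) (hab : n = a * b) (ha : 2 ≤ a) (hlt : a < b)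
    (hrp : r ≠ p) (hrq : ¬ r ∣ Fintype.card F - 1) (hcard : r ∣ Nat.card (GL (Fin n) F)) :
    ∃ x ∈ Cfsg.Geo.specialLinear (Fin n) F,
      (∃ z : F, ((x ^ r : GL (Fin n) F) : Matrix (Fin n) (Fin n) F) = z • 1) ∧
      (∀ z : F, (x : Matrix (Fin n) (Fin n) F) ≠ z • 1) ∧
      ∀ g : GL (Fin n) F, g⁻¹ * x * g ∉ Cfsg.Geo.tensorProductSubgroup a b e P := by
  classical
  have hr : r.Prime := Fact.out
  set q := Fintype.card F
  set i := orderOf (q : ZMod r) with hidef
  have hkey : ∀ k, r ∣ q ^ k - 1 → i ∣ k := fun k h => by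
    refine orderOf_dvd_of_pow_eq_one ?_
    have := (ZMod.natCast_eq_zero_iff _ _).mpr h
    rw [Nat.cast_sub (Nat.one_le_pow _ _ Fintype.card_pos), sub_eq_zero] at this
    push_cast at this
    exact this
  have hin : i ≤ n := by
    rw [Matrix.card_GL_field] at hcard
    obtain ⟨j, -, hj⟩ := (Prime.dvd_finsetProd_iff hr.prime _).mp hcard
    rw [q_pow_factor j.2.le] at hj
    rcases hr.dvd_mul.mp hj with h | h
    · exact absurd ((dvd_q_iff (F := F) hr).mp (hr.dvd_of_dvd_pow h)) hrp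
    · have := Nat.le_of_dvd (by have := j.2; omega) (hkey _ h)
      omega
  have hi2 : 2 ≤ i := by
    by_contra h
    push Not at h
    have hpos : 0 < i := Nat.pos_of_ne_zero fun h0 => by
      have h1 := (orderOf_eq_zero_iff'.mp h0) (r - 1) (by have := hr.two_le; omega)
      refine h1 (ZMod.pow_card_sub_one_eq_one fun hq0 => hrp ?_)
      exact (dvd_q_iff (F := F) hr).mp ((ZMod.natCast_eq_zero_iff _ _).mp hq0)
    have h1 : (q : ZMod r) = 1 := orderOf_eq_one_iff.mp (by omega)
    exact hrq (by rw [← ZMod.natCast_eq_zero_iff, Nat.cast_sub Fintype.card_pos, h1, Nat.cast_one, sub_self])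
  obtain ⟨x, hx1, hx2, -, hx4⟩ := exists_blocks_element (F := F) (p := p) (n := n) (s := 1) hr hrp hi2 le_rfl
    (by rw [one_mul]; exact hin)
  obtain ⟨y, hy, hyx⟩ := exists_mem_special (x : Matrix (Fin n) (Fin n) F) x.2
  have hxr : (x : Matrix (Fin n) (Fin n) F) ^ r = 1 := by rw [← one_smul F (1 : Matrix _ _ F), ← hx1]; simp
  have hrk : ((x : Matrix (Fin n) (Fin n) F) - (1 : F) • 1).rank = i := by
    have h1 := LinearMap.finrank_range_add_finrank_ker (Matrix.toLinAlgEquiv' (x : Matrix (Fin n) (Fin n) F) - 1)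
    rw [hx4, one_mul, Module.finrank_fin_fun] at h1
    rw [one_smul, Matrix.rank, show ((x : Matrix (Fin n) (Fin n) F) - 1).mulVecLin =
      Matrix.toLinAlgEquiv' (x : Matrix (Fin n) (Fin n) F) - 1 by rw [← map_one Matrix.toLinAlgEquiv', ← map_sub]; rfl]
    rw [← hidef] at h1
    omega
  refine ⟨y, hy, ⟨1, by rw [Units.val_pow_eq_pow_val, hyx, hxr, one_smul]⟩, fun z => hyx ▸ hx2 z, fun g h => ?_⟩
  obtain ⟨A, B, hAB⟩ := ranks_of_conj e P g y h
  rw [hyx] at hAB
  have hdvdrange : ∀ {m : ℕ} (C : Matrix (Fin m) (Fin m) F), C ^ r = 1 → i ∣ (C - 1).rank := fun {m} C hC => by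
    have h := (dims_in_range (p := p) (Matrix.toLinAlgEquiv' C) hr hrp (by rw [← map_pow, hC, map_one])
      (LinearMap.range (Matrix.toLinAlgEquiv' C - 1)) le_rfl fun v hv => by
        obtain ⟨w, rfl⟩ := hv
        exact ⟨Matrix.toLinAlgEquiv' C w, by simp [Matrix.mulVec_sub, Matrix.mulVec_mulVec]⟩).1
    rwa [Matrix.rank, show (C - 1).mulVecLin = Matrix.toLinAlgEquiv' C - 1 by
      rw [← map_one Matrix.toLinAlgEquiv', ← map_sub]; rfl]
  have hABr : ((A : Matrix (Fin a) (Fin a) F) ⊗ₖ (B : Matrix (Fin b) (Fin b) F)) ^ r = 1 := by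
    have h3 := hAB (X ^ r - 1)
    rw [map_sub, map_sub, map_pow, map_pow, aeval_X, aeval_X, map_one, map_one, hxr, sub_self, Matrix.rank_zero,
      eq_comm, Matrix.rank, Submodule.finrank_eq_zero, LinearMap.range_eq_bot] at h3
    exact sub_eq_zero.mp (Matrix.toLin'.injective (h3.trans (map_zero _).symm))
  have hscalar : ∀ α : F, (A : Matrix (Fin a) (Fin a) F) = α • 1 → False := fun α hα => by
    have h1 := hAB (X - C 1)
    rw [rank_lin, hrk, scalar_left _ hα, map_sub, aeval_X, aeval_C, map_one] at h1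
    have h2 : (α • (B : Matrix (Fin b) (Fin b) F)) ^ r = 1 := by
      have h3 := hAB (X ^ r - 1)
      rw [scalar_left _ hα, map_sub, map_pow, aeval_X, map_one, map_sub, map_pow, aeval_X, map_one, hxr, sub_self,
        Matrix.rank_zero, eq_comm, mul_eq_zero, Matrix.rank, Submodule.finrank_eq_zero, LinearMap.range_eq_bot] at h3
      exact sub_eq_zero.mp (Matrix.toLin'.injective ((h3.resolve_left (by omega)).trans (map_zero _).symm))
    obtain ⟨k, hk⟩ := hdvdrange _ h2
    rw [hk] at h1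
    rcases Nat.eq_zero_or_pos k with rfl | hk0
    · simp at h1; omega
    · have : 2 * i ≤ a * (i * k) := Nat.mul_le_mul ha (Nat.le_mul_of_pos_right i hk0)
      omega
  by_cases hA : ∃ α : F, (A : Matrix (Fin a) (Fin a) F) = α • 1
  · obtain ⟨α, hα⟩ := hA
    exact hscalar α hα
  push Not at hA
  by_cases hia : i ≤ a
  · have h1 := hAB (X - C 1)
    rw [rank_lin, hrk, map_sub, aeval_X, aeval_C, Algebra.algebraMap_eq_smul_one] at h1
    have := le_rank_kronecker_sub (A : Matrix (Fin a) (Fin a) F) hA B 1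
    omega
  rw [kronecker_pow] at hABr
  obtain ⟨lam, hlam0, hlam⟩ : ∃ lam : F, lam ≠ 0 ∧ (A : Matrix (Fin a) (Fin a) F) ^ r = lam • 1 := by
    let k₀ : Fin b := ⟨0, by omega⟩
    let i₀ : Fin a := ⟨0, by omega⟩
    have hcoef := fun (i' j : Fin a) => congrFun (congrFun hABr (i', k₀)) (j, k₀)
    simp only [Matrix.kroneckerMap_apply, Matrix.one_apply, Prod.mk.injEq, and_true] at hcoef
    have hB0 : ((B : Matrix (Fin b) (Fin b) F) ^ r) k₀ k₀ ≠ 0 := fun h0 => by
      have := hcoef i₀ i₀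
      rw [h0, mul_zero, if_pos rfl] at this
      exact zero_ne_one this
    refine ⟨(((B : Matrix (Fin b) (Fin b) F) ^ r) k₀ k₀)⁻¹, inv_ne_zero hB0, Matrix.ext fun i' j => ?_⟩
    rw [Matrix.smul_apply, Matrix.one_apply, smul_eq_mul]
    field_simp
    rw [hcoef i' j]
  obtain ⟨μ, hμ⟩ : ∃ μ : Fˣ, μ ^ r = Units.mk0 lam hlam0 := by
    have hcop : (Nat.card Fˣ).Coprime r := by
      rw [Nat.card_units, Nat.card_eq_fintype_card]
      exact (hr.coprime_iff_not_dvd.mpr hrq).symm
    exact ⟨(powCoprime hcop).symm (Units.mk0 lam hlam0), Equiv.apply_symm_apply (powCoprime hcop) _⟩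
  have hμ' : (μ : F) ^ r = lam := by rw [← Units.val_pow_eq_pow_val, hμ, Units.val_mk0]
  have hA' : (((μ : F)⁻¹) • (A : Matrix (Fin a) (Fin a) F)) ^ r = 1 := by
    rw [_root_.smul_pow, hlam, smul_smul, inv_pow, hμ', inv_mul_cancel₀ hlam0, one_smul]
  obtain ⟨k, hk⟩ := hdvdrange _ hA'
  have hle := Matrix.rank_le_card_width (((μ : F)⁻¹) • (A : Matrix (Fin a) (Fin a) F) - 1)
  rw [Fintype.card_fin, hk] at hle
  rcases Nat.eq_zero_or_pos k with rfl | hk0
  · rw [mul_zero, Matrix.rank, Submodule.finrank_eq_zero, LinearMap.range_eq_bot] at hk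
    have := sub_eq_zero.mp (Matrix.toLin'.injective (hk.trans (map_zero _).symm))
    rw [inv_smul_eq_iff₀ (Units.ne_zero μ)] at this
    exact hA μ this
  · have := Nat.le_mul_of_pos_right i hk0
    omega

end CfsgLib.TensorElusive
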