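/-
Symplectic elements of prime order without conjugates in a tensor stabiliser.
-/
import Cfsg.Agent.Lib.TensorElusive.Neg
import Cfsg.Agent.Lib.TensorElusive.Intertwine
import Cfsg.Agent.Lib.TensorElusive.SympTools
import Cfsg.Agent.Lib.PrimeIso.Models
import Cfsg.Agent.Lib.PrimeIso.Rev

set_option autoImplicit false
set_option linter.unusedSectionVars false

namespace CfsgLib.TensorElusive

open Polynomial Module CfsgLib.MaxSub.Elusive
open scoped Kronecker Matrix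

universe u

variable {F : Type u} [Field F] [Fintype F] {p r d a b : ℕ} [Fact p.Prime] [CharP F p] [Fact r.Prime]

/-- The conclusion sought. -/
def SympBad (e : (Fin d ⊕ Fin d) ≃ Fin a × Fin b) (P : GL (Fin d ⊕ Fin d) F) (r : ℕ) : Prop :=
  ∃ x ∈ Cfsg.spGL d F,
    (∃ z : F, ((x ^ r : GL (Fin d ⊕ Fin d) F) : Matrix (Fin d ⊕ Fin d) (Fin d ⊕ Fin d) F) = z • 1) ∧
    (∀ z : F, (x : Matrix (Fin d ⊕ Fin d) (Fin d ⊕ Fin d) F) ≠ z • 1) ∧
    ∀ g : GL (Fin d ⊕ Fin d) F, g⁻¹ * x * g ∉ Cfsg.Geo.tensorProductSubgroup a b e P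

theorem sympBad_of_matrix (e : (Fin d ⊕ Fin d) ≃ Fin a × Fin b) (P : GL (Fin d ⊕ Fin d) F) {k : ℕ}
    (M : Matrix.symplecticGroup (Fin d) F) {z : F} (hpow : (M : Matrix (Fin d ⊕ Fin d) (Fin d ⊕ Fin d) F) ^ k = z • 1)
    {z₁ z₂ : F} (h₁ : ¬ a ∣ ((M : Matrix (Fin d ⊕ Fin d) (Fin d ⊕ Fin d) F) - z₁ • 1).rank)
    (h₂ : ((M : Matrix (Fin d ⊕ Fin d) (Fin d ⊕ Fin d) F) - z₂ • 1).rank < b) (hab : 2 * d = a * b) :
    SympBad e P k := by
  refine ⟨glS M, glS_mem M, ⟨z, by rw [Units.val_pow_eq_pow_val]; exact hpow⟩, fun w hw => h₁ ?_,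
    fun g => not_mem_of_ranks e P g (glS M) (z₁ := z₁) (z₂ := z₂) h₁ h₂⟩
  rw [show (M : Matrix (Fin d ⊕ Fin d) (Fin d ⊕ Fin d) F) = w • 1 from hw, ← sub_smul]
  by_cases h0 : w - z₁ = 0
  · rw [h0, zero_smul, Matrix.rank_zero]
    exact dvd_zero a
  · rw [Matrix.rank_of_isUnit _ ((Matrix.isUnit_iff_isUnit_det _).mpr (by
      rw [Matrix.det_smul, Matrix.det_one, mul_one]; exact (isUnit_iff_ne_zero.mpr h0).pow _)), Fintype.card_sum,
      Fintype.card_fin, ← two_mul, hab]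
    exact dvd_mul_right a b

theorem rank_single {ι : Type} [Fintype ι] [DecidableEq ι] (i j : ι) : (Matrix.single i j (1 : F)).rank = 1 := by
  classical
  have hr : LinearMap.range (Matrix.single i j (1 : F)).mulVecLin = Submodule.span F {Pi.single i (1 : F)} := by
    refine le_antisymm ?_ ((Submodule.span_singleton_le_iff_mem _ _).mpr ⟨Pi.single j 1, by
      funext k
      simp [Matrix.single_apply, Pi.single_apply, eq_comm]⟩)
    rintro _ ⟨v, rfl⟩
    refine Submodule.mem_span_singleton.mpr ⟨v j, ?_⟩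
    funext k
    simp [Matrix.single_mulVec, Pi.single_apply, Function.update_apply]
  rw [Matrix.rank, hr, finrank_span_singleton (by simp)]

/-- A symplectic transvection. -/
theorem sympBad_char (e : (Fin d ⊕ Fin d) ≃ Fin a × Fin b) (P : GL (Fin d ⊕ Fin d) F) (hab : 2 * d = a * b) (hd : 0 < d)
    (ha : 2 ≤ a) (hb : 3 ≤ b) : SympBad e P p := by
  classical
  let j0 : Fin d := ⟨0, hd⟩
  let S : Matrix (Fin d) (Fin d) F := Matrix.single j0 j0 1
  have hmem : ∀ c : F, Matrix.fromBlocks 1 (c • S) 0 1 ∈ Matrix.symplecticGroup (Fin d) F := fun c => by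
    rw [SymplecticGroup.mem_iff, Matrix.J, Matrix.fromBlocks_transpose, Matrix.fromBlocks_multiply, Matrix.fromBlocks_multiply]
    simp [S, Matrix.transpose_single]
  have hpow : ∀ k : ℕ, (Matrix.fromBlocks 1 S 0 1 : Matrix (Fin d ⊕ Fin d) (Fin d ⊕ Fin d) F) ^ k =
      Matrix.fromBlocks 1 ((k : F) • S) 0 1 := fun k => by
    induction k with
    | zero => simp
    | succ k ih => rw [pow_succ, ih, Matrix.fromBlocks_multiply]; simp [add_smul, add_comm]
  have hsub : (Matrix.fromBlocks 1 S 0 1 : Matrix (Fin d ⊕ Fin d) (Fin d ⊕ Fin d) F) - (1 : F) • 1 =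
      Matrix.single (Sum.inl j0) (Sum.inr j0) 1 := by
    rw [one_smul]
    ext (i | i) (j | j) <;> simp [S, Matrix.single_apply, Matrix.one_apply]
  refine sympBad_of_matrix e P ⟨Matrix.fromBlocks 1 S 0 1, by simpa using hmem 1⟩ (z := 1) ?_ (z₁ := 1) (z₂ := 1) ?_ ?_ hab
  · show (Matrix.fromBlocks 1 S 0 1) ^ p = _
    rw [hpow, CharP.cast_eq_zero, zero_smul, Matrix.fromBlocks_one, one_smul]
  · show ¬ a ∣ (Matrix.fromBlocks 1 S 0 1 - (1 : F) • 1).rank
    rw [hsub, rank_single, Nat.dvd_one]; omega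
  · show (Matrix.fromBlocks 1 S 0 1 - (1 : F) • 1).rank < b
    rw [hsub, rank_single]; omega

/-- A hyperbolic line. -/
theorem sympBad_split (e : (Fin d ⊕ Fin d) ≃ Fin a × Fin b) (P : GL (Fin d ⊕ Fin d) F) (hab : 2 * d = a * b) (hd : 0 < d)
    (_hae : Even a) (ha : 2 ≤ a) (hb : 3 ≤ b) (hrq : r ∣ Fintype.card F - 1) (hcond : ¬ (r = 2 ∧ a = 2)) :
    SympBad e P r := by
  classical
  have hr : r.Prime := Fact.out
  let j0 : Fin d := ⟨0, hd⟩
  obtain ⟨ω, hω⟩ : ∃ ω : Fˣ, orderOf ω = r :=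
    exists_prime_orderOf_dvd_card' r (by rwa [Nat.card_units, Nat.card_eq_fintype_card])
  have hωr : (ω : F) ^ r = 1 := by rw [← Units.val_pow_eq_pow_val, ← hω, pow_orderOf_eq_one, Units.val_one]
  have hω1 : (ω : F) ≠ 1 := fun h => by
    rw [Units.val_eq_one] at h
    rw [h, orderOf_one] at hω
    exact hr.ne_one hω.symm
  have hinv1 : (ω : F)⁻¹ ≠ 1 := fun h => hω1 (inv_eq_one.mp h)
  let v : Fin d → F := fun j => if j = j0 then (ω : F) else 1
  let v' : Fin d → F := fun j => if j = j0 then (ω : F)⁻¹ else 1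
  have hvv : ∀ j, v j * v' j = 1 := fun j => by by_cases h : j = j0 <;> simp [v, v', h]
  have hmem : Matrix.diagonal (Sum.elim v v') ∈ Matrix.symplecticGroup (Fin d) F := by
    rw [SymplecticGroup.mem_iff, Matrix.J, ← Matrix.fromBlocks_diagonal, Matrix.fromBlocks_transpose,
      Matrix.fromBlocks_multiply, Matrix.fromBlocks_multiply]
    simp [Matrix.diagonal_transpose, Matrix.diagonal_mul_diagonal, hvv, mul_comm (v' _) (v _)]
    rw [← Matrix.diagonal_one, Matrix.diagonal_neg]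
  have hrk1 : (Matrix.diagonal (Sum.elim v v') - (1 : F) • 1).rank = 2 := by
    rw [rank_diag_sub, show (Finset.univ.filter fun i => Sum.elim v v' i ≠ 1) = {Sum.inl j0, Sum.inr j0} by
      ext (i | i) <;> by_cases h : i = j0 <;> simp [v, v', h, hω1, hinv1],
      Finset.card_pair Sum.inl_ne_inr]
  have hpow : Matrix.diagonal (Sum.elim v v') ^ r = (1 : F) • 1 := by
    rw [Matrix.diagonal_pow, one_smul, ← Matrix.diagonal_one]
    congr 1
    funext i
    rcases i with i | i <;> by_cases h : i = j0 <;> simp [v, v', h, inv_pow, hωr]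
  obtain ⟨z, hz⟩ : ∃ z : F, ¬ a ∣ (Matrix.diagonal (Sum.elim v v') - z • 1).rank := by
    by_cases ha2 : a = 2
    · refine ⟨ω, ?_⟩
      have hne : (ω : F)⁻¹ ≠ ω := fun h => by
        have h2 : (ω : F) ^ 2 = 1 := by rw [pow_two]; nth_rw 1 [← h]; exact inv_mul_cancel₀ (Units.ne_zero ω)
        have h3 : ω ^ 2 = 1 := Units.ext (by rw [Units.val_pow_eq_pow_val, h2, Units.val_one])
        exact hcond ⟨le_antisymm (Nat.le_of_dvd two_pos (hω ▸ orderOf_dvd_of_pow_eq_one h3)) hr.two_le, ha2⟩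
      rw [rank_diag_sub, show (Finset.univ.filter fun i => Sum.elim v v' i ≠ (ω : F)) = Finset.univ.erase (Sum.inl j0) by
        ext (i | i) <;> by_cases h : i = j0 <;> simp [v, v', h, hne, Ne.symm hω1],
        Finset.card_erase_of_mem (Finset.mem_univ _), Finset.card_univ, Fintype.card_sum, Fintype.card_fin, ha2]
      omega
    · exact ⟨1, by rw [hrk1]; intro h; have := Nat.le_of_dvd two_pos h; omega⟩
  exact sympBad_of_matrix e P ⟨_, hmem⟩ hpow hz (z₂ := 1) (by rw [hrk1]; omega) hab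

/-- The swap block, with a factor separating its two halves. -/
theorem exists_swap_block' {i : ℕ} (_hrp : r ≠ p) (hi : orderOf (Fintype.card F : ZMod r) = i) (hodd : Odd i) (hr2 : r ≠ 2) :
    ∃ (A : Type) (_ : CommRing A) (_ : Algebra F A) (_ : FiniteDimensional F A) (𝔅 : CfsgLib.PrimeIso.Block F A) (z : A)
      (g : F[X]), finrank F A = 2 * i ∧ 𝔅.inv z * z = 1 ∧ z ^ r = 1 ∧ IsUnit (z - 1) ∧ g.eval 1 ≠ 0 ∧
        finrank F (LinearMap.ker (LinearMap.mulLeft F (aeval z g))) = i := by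
  classical
  have : NeZero i := ⟨by rintro rfl; simp at hodd⟩
  let E := FiniteField.Extension F p i
  have : Fintype E := Fintype.ofFinite E
  have hr : r.Prime := Fact.out
  obtain ⟨ζ, hζ⟩ : ∃ ζ : Eˣ, orderOf ζ = r := by
    refine exists_prime_orderOf_dvd_card' r ?_
    rw [Nat.card_units, FiniteField.natCard_extension, Nat.card_eq_fintype_card, CfsgLib.PrimeIso.dvd_pow_sub_one_iff, hi]
  obtain ⟨fn, hfn⟩ : ∃ fn : E →ₗ[F] F, fn 1 ≠ 0 := by
    by_contra hc
    push Not at hc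
    exact one_ne_zero ((Module.forall_dual_apply_eq_zero_iff F (1 : E)).mp hc)
  have hne : ∀ η : Eˣ, orderOf η = r → (η : E) ≠ 1 := fun η hη h => by
    rw [Units.val_eq_one] at h
    rw [h, orderOf_one] at hη
    exact hr.one_lt.ne hη
  set g := minpoly F (ζ : E)
  have hint : IsIntegral F (ζ : E) := Algebra.IsIntegral.isIntegral _
  have hg0 : aeval ((ζ⁻¹ : Eˣ) : E) g ≠ 0 := fun h => by
    obtain ⟨σ, hσ⟩ := isConjRoot_iff_exists_algEquiv.mp ((isConjRoot_iff_aeval_eq_zero hint).mpr h)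
    have hσζ : σ (ζ : E) = ((ζ⁻¹ : Eˣ) : E) := by
      rw [Units.val_inv_eq_inv_val, map_inv₀, inv_eq_iff_eq_inv] at hσ
      rw [hσ, Units.val_inv_eq_inv_val]
    have h2 : (σ ^ 2) (ζ : E) = ζ := by
      rw [pow_two, AlgEquiv.mul_apply, hσζ, Units.val_inv_eq_inv_val, map_inv₀, hσζ, Units.val_inv_eq_inv_val, inv_inv]
    have hσi : σ ^ i = 1 := by
      have hcard : Nat.card (E ≃ₐ[F] E) = i := by rw [IsGalois.card_aut_eq_finrank, FiniteField.finrank_extension]
      have h1 := pow_card_eq_one' (x := σ)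
      rwa [hcard] at h1
    obtain ⟨j, rfl⟩ := hodd
    have h3 : ∀ k : ℕ, ((σ ^ 2) ^ k) (ζ : E) = ζ := fun k => by
      induction k with
      | zero => rfl
      | succ k ih => rw [pow_succ, AlgEquiv.mul_apply, h2, ih]
    have h4 : σ (ζ : E) = ζ := by
      have h5 : σ ^ (2 * j + 1) = σ * (σ ^ 2) ^ j := by rw [← pow_mul, ← pow_succ']
      have h6 := AlgEquiv.congr_fun (h5.symm.trans hσi) (ζ : E)
      rwa [AlgEquiv.mul_apply, h3] at h6
    rw [hσζ, Units.val_inj] at h4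
    have h7 : ζ ^ 2 = 1 := by rw [pow_two]; nth_rw 1 [← h4]; exact inv_mul_cancel ζ
    exact hr2 (le_antisymm (Nat.le_of_dvd two_pos (hζ ▸ orderOf_dvd_of_pow_eq_one h7)) hr.two_le)
  refine ⟨E × E, inferInstance, inferInstance, inferInstance,
    { inv := (AlgHom.snd F E E).prod (AlgHom.fst F E E)
      fn := fn.comp (LinearMap.fst F E E) - fn.comp (LinearMap.snd F E E)
      inv_inv := fun a => rfl
      fn_inv := fun a => by simp
      fn_self := fun a => by simp [mul_comm]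
      fn_nondeg := fun a ha => ?_ }, ((ζ : E), ((ζ⁻¹ : Eˣ) : E)), g, ?_, ?_, ?_, ?_, ?_, ?_⟩
  · by_cases h1 : a.1 = 0
    · have h2 : a.2 ≠ 0 := fun h => ha (Prod.ext h1 h)
      exact ⟨(0, a.2⁻¹), by simp [h1, mul_inv_cancel₀ h2, hfn]⟩
    · exact ⟨(a.1⁻¹, 0), by simp [mul_inv_cancel₀ h1, hfn]⟩
  · rw [Module.finrank_prod, FiniteField.finrank_extension, two_mul]
  · show ((((ζ⁻¹ : Eˣ) : E)), (ζ : E)) * ((ζ : E), ((ζ⁻¹ : Eˣ) : E)) = 1
    simp
  · have hp := pow_orderOf_eq_one ζ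
    rw [hζ] at hp
    refine Prod.ext ?_ ?_ <;> simp [← Units.val_pow_eq_pow_val, inv_pow, hp]
  · rw [Prod.isUnit_iff]
    exact ⟨(sub_ne_zero.mpr (hne ζ hζ)).isUnit, (sub_ne_zero.mpr (hne ζ⁻¹ (by rw [orderOf_inv, hζ]))).isUnit⟩
  · intro h
    have hdvd : X - C (1 : F) ∣ g := dvd_iff_isRoot.mpr h
    have heq := eq_of_monic_of_associated (monic_X_sub_C 1) (minpoly.monic hint)
      ((irreducible_X_sub_C 1).associated_of_dvd (minpoly.irreducible hint) hdvd)
    have h1 : aeval (ζ : E) (X - C (1 : F)) = 0 := heq.symm ▸ minpoly.aeval F (ζ : E)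
    rw [map_sub, aeval_X, aeval_C, map_one, sub_eq_zero] at h1
    exact hne ζ hζ h1
  · have hg0' : aeval ((ζ : E))⁻¹ g ≠ 0 := by rwa [← Units.val_inv_eq_inv_val]
    rw [show LinearMap.ker (LinearMap.mulLeft F (aeval ((ζ : E), ((ζ⁻¹ : Eˣ) : E)) g)) =
        LinearMap.range (LinearMap.inl F E E) by
      ext ⟨x, y⟩
      rw [LinearMap.mem_ker, LinearMap.mulLeft_apply, Polynomial.aeval_prod_apply, minpoly.aeval, Prod.mk_mul_mk,
        zero_mul, Prod.mk_eq_zero, LinearMap.mem_range]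
      simp [hg0', eq_comm],
      LinearMap.finrank_range_of_inj LinearMap.inl_injective, FiniteField.finrank_extension]

/-- Kronecker factors of period `r`. -/
theorem normalise (hrq : ¬ r ∣ Fintype.card F - 1) (ha : 0 < a) (hb : 0 < b) (A : Matrix (Fin a) (Fin a) F)
    (B : Matrix (Fin b) (Fin b) F) (h : (A ⊗ₖ B) ^ r = 1) :
    ∃ (A' : Matrix (Fin a) (Fin a) F) (B' : Matrix (Fin b) (Fin b) F), A' ^ r = 1 ∧ B' ^ r = 1 ∧ A' ⊗ₖ B' = A ⊗ₖ B := by
  classical
  have hr : r.Prime := Fact.out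
  rw [kronecker_pow] at h
  let k₀ : Fin b := ⟨0, hb⟩
  let i₀ : Fin a := ⟨0, ha⟩
  have hcoef := fun (i' j : Fin a) => congrFun (congrFun h (i', k₀)) (j, k₀)
  simp only [Matrix.kroneckerMap_apply, Matrix.one_apply, Prod.mk.injEq, and_true] at hcoef
  have hB0 : (B ^ r) k₀ k₀ ≠ 0 := fun h0 => by
    have := hcoef i₀ i₀
    rw [h0, mul_zero, if_pos rfl] at this
    exact zero_ne_one this
  set lam := ((B ^ r) k₀ k₀)⁻¹
  have hlam : A ^ r = lam • 1 := Matrix.ext fun i' j => by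
    rw [Matrix.smul_apply, Matrix.one_apply, smul_eq_mul, eq_inv_mul_iff_mul_eq₀ hB0, mul_comm]
    exact hcoef i' j
  obtain ⟨μ, hμ⟩ : ∃ μ : Fˣ, μ ^ r = Units.mk0 lam (inv_ne_zero hB0) := by
    have hcop : (Nat.card Fˣ).Coprime r := by
      rw [Nat.card_units, Nat.card_eq_fintype_card]
      exact (hr.coprime_iff_not_dvd.mpr hrq).symm
    exact ⟨(powCoprime hcop).symm (Units.mk0 lam (inv_ne_zero hB0)), Equiv.apply_symm_apply (powCoprime hcop) _⟩
  have hμ' : (μ : F) ^ r = lam := by rw [← Units.val_pow_eq_pow_val, hμ, Units.val_mk0]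
  refine ⟨(μ : F)⁻¹ • A, (μ : F) • B, ?_, ?_, ?_⟩
  · rw [_root_.smul_pow, hlam, smul_smul, inv_pow, hμ', inv_mul_cancel₀ (inv_ne_zero hB0), one_smul]
  · refine Matrix.ext fun i' j => ?_
    have h2 := congrFun (congrFun h (i₀, i')) (i₀, j)
    rw [Matrix.kroneckerMap_apply, hlam, Matrix.smul_apply, Matrix.one_apply_eq, smul_eq_mul, mul_one, ← hμ'] at h2
    rw [_root_.smul_pow, Matrix.smul_apply, smul_eq_mul, h2]
    simp [Matrix.one_apply]
  · rw [Matrix.smul_kronecker, Matrix.kronecker_smul, smul_smul, inv_mul_cancel₀ (Units.ne_zero μ), one_smul]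

/-- One block. -/
theorem sympBad_nonsplit (e : (Fin d ⊕ Fin d) ≃ Fin a × Fin b) (P : GL (Fin d ⊕ Fin d) F) (_hab : 2 * d = a * b)
    (hae : Even a) (ha : 2 ≤ a) (hb : 3 ≤ b) (hrp : r ≠ p) (hodd : Odd (Fintype.card F))
    (hrq : ¬ r ∣ Fintype.card F - 1) (hcard : r ∣ Nat.card ↥(Cfsg.spGL d F)) : SympBad e P r := by
  classical
  have hr : r.Prime := Fact.out
  have hr2 : r ≠ 2 := by
    rintro rfl
    obtain ⟨k, hk⟩ := hodd
    exact hrq ⟨k, by omega⟩
  set i := orderOf (Fintype.card F : ZMod r) with hidef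
  have hi0 : 0 < i := CfsgLib.PrimeIso.order_pos (F := F) hrp
  obtain ⟨l, hl1, hld, hl⟩ := exists_pow_sub_one hr (fun h => hrp ((dvd_q_iff (F := F) hr).mp h)) hcard
  rw [CfsgLib.PrimeIso.dvd_pow_sub_one_iff, ← hidef] at hl
  have hi2 : 2 ≤ i := by
    by_contra h
    have h1 : i = 1 := by omega
    exact hrq (by rw [← pow_one (Fintype.card F), CfsgLib.PrimeIso.dvd_pow_sub_one_iff, ← hidef, h1])
  obtain ⟨x, D, hxr, hrk, hD, hgx⟩ : ∃ (x : Matrix.symplecticGroup (Fin d) F) (D : ℕ),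
      x ^ r = 1 ∧ ((x : Matrix (Fin d ⊕ Fin d) (Fin d ⊕ Fin d) F) - 1).rank = D ∧
      ((Even i ∧ D = i) ∨ (Odd i ∧ D = 2 * i)) ∧
      (Odd i → ∃ g : F[X], (aeval (x : Matrix (Fin d ⊕ Fin d) (Fin d ⊕ Fin d) F) g).rank + i = 2 * d) := by
    have hrkof : ∀ (x : Matrix.symplecticGroup (Fin d) F) (g : F[X]),
        (aeval (x : Matrix (Fin d ⊕ Fin d) (Fin d ⊕ Fin d) F) g).rank +
          finrank F (LinearMap.ker (aeval (Matrix.toLin' (x : Matrix (Fin d ⊕ Fin d) (Fin d ⊕ Fin d) F)) g)) = 2 * d := by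
      intro x g
      rw [Matrix.rank, show (aeval (x : Matrix (Fin d ⊕ Fin d) (Fin d ⊕ Fin d) F) g).mulVecLin =
        aeval (Matrix.toLin' (x : Matrix (Fin d ⊕ Fin d) (Fin d ⊕ Fin d) F)) g from
          (Polynomial.aeval_algHom_apply (Matrix.toLinAlgEquiv' (R := F) (n := Fin d ⊕ Fin d)) _ g).symm,
        LinearMap.finrank_range_add_finrank_ker, Module.finrank_pi, Fintype.card_sum, Fintype.card_fin, two_mul]
    have hone : ∀ {A : Type} [CommRing A] [Algebra F A] (z : A), IsUnit (z - 1) →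
        finrank F (LinearMap.ker (LinearMap.mulLeft F (aeval z (X - C (1 : F))))) = 0 := fun {A} _ _ z hz => by
      rw [map_sub, aeval_X, aeval_C, map_one, LinearMap.ker_eq_bot.mpr (IsUnit.mul_right_injective hz), finrank_bot]
    rcases Nat.even_or_odd i with he | ho
    · obtain ⟨h, hh⟩ := he
      have hhd : h ≤ d := by have := Nat.le_of_dvd (by omega) hl; omega
      obtain ⟨A, _, _, _, 𝔅, hdim, hroots⟩ :=
        CfsgLib.PrimeIso.exists_field_block (F := F) (p := p) (r := r) (h := h) hrp (by omega)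
      have hdeg : (geom F r).natDegree = r - 1 := CfsgLib.PrimeIso.geom_natDegree (F := F) hr.pos
      obtain ⟨g₀, hg₀⟩ := Polynomial.exists_irreducible_of_natDegree_pos (f := geom F r) (by have := hr.two_le; omega)
      have hgm : (g₀ * C g₀.leadingCoeff⁻¹).Monic := monic_mul_leadingCoeff_inv hg₀.1.ne_zero
      have hass : Associated g₀ (g₀ * C g₀.leadingCoeff⁻¹) := (associated_mul_unit_right g₀ _
        (isUnit_C.mpr (isUnit_iff_ne_zero.mpr (inv_ne_zero (leadingCoeff_ne_zero.mpr hg₀.1.ne_zero)))))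
      obtain ⟨z, -, hz2, hz3, hz4⟩ := hroots _ (hass.irreducible hg₀.1) hgm (hass.dvd_iff_dvd_left.mp hg₀.2)
      obtain ⟨x, hx, hker⟩ := CfsgLib.PrimeIso.exists_element 𝔅 (T := 1) (k := d - h) (fun _ => z) (fun _ => hz2)
        (fun _ => hz3) (d := d) (by rw [hdim]; omega)
      have h1 := (hker (X - C 1)).2 (by simp)
      rw [Fin.sum_univ_one, hone z (sub_ne_zero.mpr hz4).isUnit] at h1
      have h2 := hrkof x (X - C 1)
      rw [h1, map_sub, aeval_X, aeval_C, map_one] at h2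
      exact ⟨x, i, hx, by omega, Or.inl ⟨⟨h, hh⟩, rfl⟩, fun ho => absurd (⟨h, hh⟩ : Even i) (Nat.not_even_iff_odd.mpr ho)⟩
    · have hid : i ≤ d := by
        have := Nat.le_of_dvd (by omega) ((Nat.Coprime.dvd_mul_left (Nat.coprime_two_right.mpr ho)).mp hl)
        omega
      obtain ⟨A, _, _, _, 𝔅, z, g, hdim, hz2, hz3, hzu, hg1, hgk⟩ :=
        exists_swap_block' (F := F) (p := p) (r := r) (i := i) hrp rfl ho hr2
      obtain ⟨x, hx, hker⟩ := CfsgLib.PrimeIso.exists_element 𝔅 (T := 1) (k := d - i) (fun _ => z) (fun _ => hz2)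
        (fun _ => hz3) (d := d) (by rw [hdim]; omega)
      have h1 := (hker (X - C 1)).2 (by simp)
      rw [Fin.sum_univ_one, hone z hzu] at h1
      have h2 := hrkof x (X - C 1)
      rw [h1, map_sub, aeval_X, aeval_C, map_one] at h2
      have h3 := (hker g).1 hg1
      rw [Fin.sum_univ_one, hgk] at h3
      exact ⟨x, 2 * i, hx, by omega, Or.inr ⟨ho, rfl⟩, fun _ => ⟨g, by rw [← h3]; exact hrkof x g⟩⟩
  have hxr' : (x : Matrix (Fin d ⊕ Fin d) (Fin d ⊕ Fin d) F) ^ r = 1 := by rw [← SubmonoidClass.coe_pow, hxr]; rfl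
  have hD0 : 0 < D := by rcases hD with ⟨-, rfl⟩ | ⟨-, rfl⟩ <;> omega
  refine ⟨glS x, glS_mem x, ⟨1, by rw [Units.val_pow_eq_pow_val, one_smul]; exact hxr'⟩, fun z hz => ?_, fun g hg => ?_⟩
  · have hz' : (x : Matrix (Fin d ⊕ Fin d) (Fin d ⊕ Fin d) F) = z • 1 := hz
    have hz1 : z ^ r = 1 := by
      have h := hxr'
      rw [hz', _root_.smul_pow, one_pow] at h
      have h2 := congrFun (congrFun h (Sum.inl ⟨0, by omega⟩)) (Sum.inl ⟨0, by omega⟩)
      simpa using h2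
    have hz2 : z = 1 := root_unity_one (F := F) hr hrq hz1
    rw [hz', hz2, one_smul, sub_self, Matrix.rank_zero] at hrk
    omega
  obtain ⟨A, B, hAB⟩ := ranks_of_conj e P g (glS x) hg
  change ∀ Q : F[X], (aeval (x : Matrix (Fin d ⊕ Fin d) (Fin d ⊕ Fin d) F) Q).rank = _ at hAB
  have hABr : ((A : Matrix (Fin a) (Fin a) F) ⊗ₖ (B : Matrix (Fin b) (Fin b) F)) ^ r = 1 := by
    have h3 := hAB (X ^ r - 1)
    rw [map_sub, map_sub, map_pow, map_pow, aeval_X, aeval_X, map_one, map_one, hxr', sub_self, Matrix.rank_zero,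
      eq_comm, Matrix.rank, Submodule.finrank_eq_zero, LinearMap.range_eq_bot] at h3
    exact sub_eq_zero.mp (Matrix.toLin'.injective (h3.trans (map_zero _).symm))
  obtain ⟨A', B', hA', hB', hAB'⟩ := normalise hrq (by omega) (by omega) _ _ hABr
  rw [← hAB'] at hAB
  obtain ⟨s, t, hsa, htb, -, hs0, ht0, hbound⟩ := kronecker_rank_bound (p := p) hr hrp A' B' hA' hB'
  rw [← hidef] at hsa htb hbound
  have hK : (A' ⊗ₖ B' - 1).rank = D := by
    have h1 := hAB (X - 1)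
    rw [map_sub, map_sub, aeval_X, aeval_X, map_one, map_one, hrk] at h1
    exact h1.symm
  rw [hK] at hbound
  obtain ⟨X₀, hX₀⟩ : ∃ X₀, b = t * i + X₀ := ⟨b - t * i, by omega⟩
  obtain ⟨Y₀, hY₀⟩ : ∃ Y₀, a = s * i + Y₀ := ⟨a - s * i, by omega⟩
  rw [show b - t * i = X₀ by omega, show a - s * i = Y₀ by omega, hX₀, hY₀] at hbound
  rcases Nat.eq_zero_or_pos s with rfl | hs
  · have hA1 : A' = (1 : F) • 1 := by rw [one_smul]; exact hs0 rfl
    rcases Nat.eq_zero_or_pos t with rfl | ht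
    · rw [hs0 rfl, ht0 rfl, Matrix.one_kronecker_one, sub_self, Matrix.rank_zero] at hK
      omega
    have h1 : Y₀ * (t * i) ≤ D := by nlinarith
    rcases hD with ⟨-, rfl⟩ | ⟨ho, rfl⟩
    · have h5 : 2 * (1 * i) ≤ Y₀ * (t * i) := Nat.mul_le_mul (by omega) (Nat.mul_le_mul_right _ ht)
      omega
    · obtain ⟨g', hg'⟩ := hgx ho
      rw [hAB g', scalar_left _ hA1] at hg'
      obtain ⟨c, hc⟩ := hae
      obtain ⟨j, hj⟩ := ho
      rw [hc, ← two_mul c, mul_assoc] at hg'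
      omega
  · have h1 : i * (X₀ * s + t * Y₀ + t * s * (i - 1)) ≤ D := by
      obtain ⟨i', hi'⟩ : ∃ i', i = i' + 1 := ⟨i - 1, by omega⟩
      rw [hi'] at hbound ⊢
      rw [Nat.add_sub_cancel]
      nlinarith
    obtain ⟨c, hc⟩ := hae
    rcases hD with ⟨-, rfl⟩ | ⟨ho, rfl⟩
    · have h2 : X₀ * s + t * Y₀ + t * s * (i - 1) ≤ 1 := Nat.le_of_mul_le_mul_left (by rw [mul_one]; exact h1) hi0
      rcases Nat.eq_zero_or_pos t with rfl | ht
      · rw [zero_mul, zero_add] at hX₀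
        have h10 : 3 * 1 ≤ X₀ * s := Nat.mul_le_mul (by omega) hs
        omega
      · have h3 : 1 * 1 * (i - 1) ≤ t * s * (i - 1) := Nat.mul_le_mul_right _ (Nat.mul_le_mul ht hs)
        have h4 : i = 2 := by omega
        have h6 : X₀ * 1 ≤ X₀ * s := Nat.mul_le_mul_left _ hs
        have h7 : 1 * 1 ≤ t * s := Nat.mul_le_mul ht hs
        rw [h4] at h2 hX₀
        have h8 : t ≤ 1 := by nlinarith
        have h9 : t = 1 := by omega
        subst h9
        omega
    · have h2 : X₀ * s + t * Y₀ + t * s * (i - 1) ≤ 2 :=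
        Nat.le_of_mul_le_mul_left (by rw [mul_comm i 2]; exact h1) hi0
      rcases Nat.eq_zero_or_pos t with rfl | ht
      · rw [zero_mul, zero_add] at hX₀
        have h10 : 3 * 1 ≤ X₀ * s := Nat.mul_le_mul (by omega) hs
        omega
      · obtain ⟨j, hj⟩ := ho
        have h3 : 1 * 1 * (i - 1) ≤ t * s * (i - 1) := Nat.mul_le_mul_right _ (Nat.mul_le_mul ht hs)
        have h4 : i = 3 := by omega
        have h6 : X₀ * 1 ≤ X₀ * s := Nat.mul_le_mul_left _ hs
        have h7 : 1 * Y₀ ≤ t * Y₀ := Nat.mul_le_mul_right _ ht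
        rw [h4] at h2 hY₀
        have h8 : s ≤ 1 := by nlinarith
        have h9 : s = 1 := by omega
        subst h9
        omega

end CfsgLib.TensorElusive
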