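/-
Symplectic involutions inside the stabiliser of a tensor decomposition with a factor of dimension two.
-/
import Cfsg.Agent.Lib.TensorElusive.SympTools
import Cfsg.Agent.Lib.TensorElusive.Rank
import Cfsg.Agent.Lib.SemisimpleIso.Groups
import Cfsg.Agent.Lib.MaxSub.ElusiveImprimTools
import Cfsg.Agent.Lib.MaxSub.LagPairCount
import Cfsg.Agent.Lib.Aschbacher.Forms
import Cfsg.Agent.Lib.FiniteForms.Congr
import Cfsg.Agent.Lib.PrimeIso.Symp

set_option autoImplicit false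
set_option linter.unusedSectionVars false

namespace CfsgLib.TensorElusive

open Polynomial Module CfsgLib.IsotropicCount
open scoped Kronecker Matrix

universe u

variable {F : Type u} [Field F] [Fintype F] {d : ℕ}

/-- A linear map with a given matrix in some basis has a matrix conjugate to it. -/
theorem isConj_of_basis {ι κ : Type} [Fintype ι] [DecidableEq ι] [Fintype κ] [DecidableEq κ] (e : ι ≃ κ)
    (M : Matrix ι ι F) (C : Basis κ F (ι → F)) (K : Matrix κ κ F) (h : LinearMap.toMatrix C C (Matrix.toLin' M) = K) :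
    IsConj M (Matrix.reindex e.symm e.symm K) := by
  let C' : Basis ι F (ι → F) := C.reindex e.symm
  have hK : LinearMap.toMatrix C' C' (Matrix.toLin' M) = Matrix.reindex e.symm e.symm K := by
    subst h
    ext i j
    simp [C', LinearMap.toMatrix_apply]
  have hM : LinearMap.toMatrix (Pi.basisFun F ι) (Pi.basisFun F ι) (Matrix.toLin' M) = M := by
    rw [LinearMap.toMatrix_eq_toMatrix', LinearMap.toMatrix'_toLin']
  refine ⟨⟨C'.toMatrix (Pi.basisFun F ι), (Pi.basisFun F ι).toMatrix C', Basis.toMatrix_mul_toMatrix_flip _ _,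
    Basis.toMatrix_mul_toMatrix_flip _ _⟩, ?_⟩
  rw [SemiconjBy]
  show C'.toMatrix (Pi.basisFun F ι) * M = Matrix.reindex e.symm e.symm K * C'.toMatrix (Pi.basisFun F ι)
  rw [← hK]
  conv_lhs => rw [← hM]
  rw [basis_toMatrix_mul_linearMap_toMatrix, linearMap_toMatrix_mul_basis_toMatrix]

theorem toMatrix_diag' {ι κ : Type} [Fintype ι] [Fintype κ] [DecidableEq κ] (C : Basis κ F (ι → F))
    (f : Module.End F (ι → F)) (w : κ → F) (h : ∀ i, f (C i) = w i • C i) :
    LinearMap.toMatrix C C f = Matrix.diagonal w := by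
  ext i j
  rw [LinearMap.toMatrix_apply, h, map_smul, C.repr_self, Finsupp.smul_single, smul_eq_mul, mul_one, Matrix.diagonal_apply,
    Finsupp.single_apply]
  by_cases hij : i = j
  · subst hij; simp
  · simp [hij, Ne.symm hij]

variable {p : ℕ} [Fact p.Prime] [CharP F p]

/-- The two kinds of involutions in a suitable basis. -/
theorem exists_basis_invol (h20 : (2 : F) ≠ 0) (x : Matrix.symplecticGroup (Fin d) F)
    (hx : (x : Matrix (Fin d ⊕ Fin d) (Fin d ⊕ Fin d) F) ^ 2 = 1) :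
    ∃ (C : Basis (Fin 2 × Fin d) F (Fin d ⊕ Fin d → F)) (sg : Fin d → F), (∀ j, sg j * sg j = 1) ∧
      LinearMap.toMatrix C C (Matrix.toLin' (x : Matrix (Fin d ⊕ Fin d) (Fin d ⊕ Fin d) F)) =
        (1 : Matrix (Fin 2) (Fin 2) F) ⊗ₖ Matrix.diagonal sg := by
  classical
  set T : Module.End F (Fin d ⊕ Fin d → F) := Matrix.toLin' (x : Matrix (Fin d ⊕ Fin d) (Fin d ⊕ Fin d) F) with hTdef
  have hT2 : ∀ v, T (T v) = v := fun v => by
    rw [hTdef, Matrix.toLin'_apply, Matrix.toLin'_apply, Matrix.mulVec_mulVec, ← pow_two, hx, Matrix.one_mulVec]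
  have hiso : ∀ u v, sympB d F (T u) (T v) = sympB d F u v := fun u v => by
    rw [sympB_apply, sympB_apply]
    exact symp_preserves x u v
  set Kp := LinearMap.ker (T - 1)
  set Km := LinearMap.ker (T + 1)
  have hp : ∀ v ∈ Kp, T v = v := fun v hv => sub_eq_zero.mp hv
  have hm : ∀ v ∈ Km, T v = -v := fun v hv => eq_neg_of_add_eq_zero_left hv
  have horth : ∀ u ∈ Kp, ∀ v ∈ Km, sympB d F u v = 0 ∧ sympB d F v u = 0 := fun u hu v hv => by
    have h1 := hiso u v
    have h2 := hiso v u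
    rw [hp u hu, hm v hv, map_neg] at h1
    rw [hp u hu, hm v hv, map_neg, LinearMap.neg_apply] at h2
    exact ⟨(mul_eq_zero.mp (show 2 * sympB d F u v = 0 by linear_combination -h1)).resolve_left h20,
      (mul_eq_zero.mp (show 2 * sympB d F v u = 0 by linear_combination -h2)).resolve_left h20⟩
  have hsplit : ∀ v, ∃ a ∈ Kp, ∃ b ∈ Km, v = a + b := fun v => by
    refine ⟨(2 : F)⁻¹ • (v + T v), ?_, (2 : F)⁻¹ • (v - T v), ?_, ?_⟩
    · show T ((2 : F)⁻¹ • (v + T v)) - (2 : F)⁻¹ • (v + T v) = 0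
      rw [map_smul, map_add, hT2]
      module
    · show T ((2 : F)⁻¹ • (v - T v)) + (2 : F)⁻¹ • (v - T v) = 0
      rw [map_smul, map_sub, hT2]
      module
    · rw [← smul_add, add_add_sub_cancel, ← two_smul F v, smul_smul, inv_mul_cancel₀ h20, one_smul]
  have hcompl : IsCompl Kp Km := by
    refine IsCompl.of_eq ((Submodule.eq_bot_iff _).mpr fun v hv => ?_) (eq_top_iff.mpr fun v _ => ?_)
    · have h1 := hm v hv.2
      rw [hp v hv.1] at h1
      have h2 : (2 : F) • v = 0 := by rw [two_smul]; exact eq_neg_iff_add_eq_zero.mp h1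
      exact (smul_eq_zero.mp h2).resolve_left h20
    · obtain ⟨a, ha, b, hb, rfl⟩ := hsplit v
      exact Submodule.add_mem_sup ha hb
  have hbil : Cfsg.Geo.IsBilinearForm (Cfsg.sympForm d F) := by
    refine ⟨fun a b v => ?_, fun c a v => ?_, fun v a b => ?_, fun c v a => ?_⟩ <;> simp only [← sympB_apply] <;> simp
  have halt : ∀ v, Cfsg.sympForm d F v v = 0 := fun v => by rw [← sympB_apply]; exact sympB_alt v
  have hev : ∀ W W' : Submodule F (Fin d ⊕ Fin d → F), (∀ u ∈ W, ∀ v ∈ W', sympB d F u v = 0) → W ⊔ W' = ⊤ →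
      Even (finrank F W) := fun W W' hW hWW => by
    refine CfsgLib.Aschbacher.even_finrank_of_alternating hbil halt _ W rfl fun w hw hw0 => ?_
    by_contra hno
    push Not at hno
    refine hw0 (sympB_nondeg.1 w fun v => ?_)
    obtain ⟨a, ha, b, hb, rfl⟩ := Submodule.mem_sup.mp (hWW ▸ Submodule.mem_top : v ∈ W ⊔ W')
    rw [map_add, sympB_apply w a, hno a ha, zero_add, hW w hw b hb]
  obtain ⟨m, hmK⟩ := hev Kp Km (fun u hu v hv => (horth u hu v hv).1) hcompl.sup_eq_top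
  obtain ⟨m', hmK'⟩ := hev Km Kp (fun u hu v hv => (horth v hv u hu).2) (by rw [sup_comm]; exact hcompl.sup_eq_top)
  have hdim := Submodule.finrank_add_eq_of_isCompl hcompl
  rw [Module.finrank_pi, Fintype.card_sum, Fintype.card_fin] at hdim
  let bp : Basis (Fin 2 × Fin m) F Kp :=
    (Module.finBasisOfFinrankEq F Kp (show finrank F Kp = 2 * m by omega)).reindex finProdFinEquiv.symm
  let bm : Basis (Fin 2 × Fin m') F Km :=
    (Module.finBasisOfFinrankEq F Km (show finrank F Km = 2 * m' by omega)).reindex finProdFinEquiv.symm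
  let E : Fin d ≃ Fin m ⊕ Fin m' := (finCongr (by omega : d = m + m')).trans finSumFinEquiv.symm
  let C : Basis (Fin 2 × Fin d) F (Fin d ⊕ Fin d → F) :=
    ((bp.prod bm).map (Submodule.prodEquivOfIsCompl Kp Km hcompl)).reindex
      ((Equiv.prodSumDistrib (Fin 2) (Fin m) (Fin m')).symm.trans ((Equiv.refl _).prodCongr E.symm))
  let sg : Fin d → F := fun j => Sum.elim (fun _ => 1) (fun _ => -1) (E j)
  refine ⟨C, sg, fun j => ?_, ?_⟩
  · show sg j * sg j = 1
    simp only [sg]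
    rcases E j <;> simp
  · have hC : ∀ q : Fin 2 × Fin d, T (C q) = sg q.2 • C q := by
      rintro ⟨c, j⟩
      simp only [C, sg, Basis.reindex_apply, Basis.map_apply, Equiv.symm_trans_apply, Equiv.symm_symm,
        Equiv.prodCongr_symm, Equiv.refl_symm, Equiv.prodCongr_apply, Prod.map_apply, Equiv.refl_apply]
      rcases hE : E j with k | k
      · simp [Equiv.prodSumDistrib, hp _ (bp (c, k)).2]
      · simp [Equiv.prodSumDistrib, hm _ (bm (c, k)).2]
    rw [toMatrix_diag' C T _ hC, ← Matrix.diagonal_one, Matrix.diagonal_kronecker_diagonal]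
    simp

/-- An element squaring to minus one in a suitable basis. -/
theorem exists_basis_neg (h20 : (2 : F) ≠ 0) (x : Matrix.symplecticGroup (Fin d) F)
    (hx : (x : Matrix (Fin d ⊕ Fin d) (Fin d ⊕ Fin d) F) ^ 2 = (-1 : F) • 1) :
    ∃ (C : Basis (Fin 2 × Fin d) F (Fin d ⊕ Fin d → F)) (A : Matrix (Fin 2) (Fin 2) F), A.det = 1 ∧
      LinearMap.toMatrix C C (Matrix.toLin' (x : Matrix (Fin d ⊕ Fin d) (Fin d ⊕ Fin d) F)) =
        A ⊗ₖ (1 : Matrix (Fin d) (Fin d) F) := by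
  classical
  set T : Module.End F (Fin d ⊕ Fin d → F) := Matrix.toLin' (x : Matrix (Fin d ⊕ Fin d) (Fin d ⊕ Fin d) F) with hTdef
  have hT2 : ∀ v, T (T v) = -v := fun v => by
    rw [hTdef, Matrix.toLin'_apply, Matrix.toLin'_apply, Matrix.mulVec_mulVec, ← pow_two, hx, Matrix.smul_mulVec,
      Matrix.one_mulVec, neg_one_smul]
  have hiso : ∀ u v, sympB d F (T u) (T v) = sympB d F u v := fun u v => by
    rw [sympB_apply, sympB_apply]
    exact symp_preserves x u v
  by_cases hsq : IsSquare (-1 : F)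
  · obtain ⟨s, hs⟩ := hsq
    have hs0 : s ≠ 0 := fun h => by simp [h] at hs
    have hiso0 : ∀ t : F, t * t = -1 → ∀ u ∈ LinearMap.ker (T - t • (1 : Module.End F (Fin d ⊕ Fin d → F))),
        ∀ v ∈ LinearMap.ker (T - t • (1 : Module.End F (Fin d ⊕ Fin d → F))), Cfsg.sympForm d F u v = 0 := by
      intro t ht u hu v hv
      have hu' : T u = t • u := sub_eq_zero.mp hu
      have hv' : T v = t • v := sub_eq_zero.mp hv
      have h1 := hiso u v
      rw [hu', hv', LinearMap.map_smul₂, map_smul, smul_eq_mul, smul_eq_mul, ← mul_assoc, ht] at h1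
      rw [← sympB_apply]
      exact (mul_eq_zero.mp (show 2 * sympB d F u v = 0 by linear_combination -h1)).resolve_left h20
    have hc1 := hiso0 s hs.symm
    have hc2 := hiso0 (-s) (by rw [neg_mul_neg]; exact hs.symm)
    set K1 := LinearMap.ker (T - s • (1 : Module.End F (Fin d ⊕ Fin d → F)))
    set K2 := LinearMap.ker (T - (-s) • (1 : Module.End F (Fin d ⊕ Fin d → F)))
    have h2s : (2 : F) * s ≠ 0 := mul_ne_zero h20 hs0
    have hcompl : IsCompl K1 K2 := by
      refine IsCompl.of_eq ((Submodule.eq_bot_iff _).mpr fun v hv => ?_) (eq_top_iff.mpr fun v _ => ?_)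
      · have h1 : T v = s • v := sub_eq_zero.mp hv.1
        have h2 : T v = (-s) • v := sub_eq_zero.mp hv.2
        have h3 : (2 * s) • v = 0 := by rw [mul_smul, two_smul]; nth_rw 2 [← h1]; rw [h2, neg_smul]; module
        exact (smul_eq_zero.mp h3).resolve_left h2s
      · rw [show v = (2 * s)⁻¹ • (s • v + T v) + (2 * s)⁻¹ • (s • v - T v) by
          rw [← smul_add, add_add_sub_cancel, ← two_smul F (s • v), smul_smul, smul_smul,
            mul_assoc, inv_mul_cancel₀ h2s, one_smul]]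
        refine Submodule.add_mem_sup ?_ ?_
        · show T _ - s • _ = 0
          rw [map_smul, map_add, map_smul, hT2, Module.End.one_apply, smul_comm s]
          rw [← smul_sub, smul_add, smul_smul, ← hs]
          module
        · show T _ - (-s) • _ = 0
          rw [map_smul, map_sub, map_smul, hT2, Module.End.one_apply, smul_comm (-s)]
          rw [← smul_sub, smul_sub (-s), smul_smul, neg_mul, ← hs, neg_neg]
          module
    obtain ⟨hd1, hd2⟩ := CfsgLib.MaxSub.lagPair_dim ⟨(K1, K2), hcompl, hc1, hc2⟩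
    let C : Basis (Fin 2 × Fin d) F (Fin d ⊕ Fin d → F) :=
      (((Module.finBasisOfFinrankEq F K1 hd1).prod (Module.finBasisOfFinrankEq F K2 hd2)).map
        (Submodule.prodEquivOfIsCompl K1 K2 hcompl)).reindex
          ((Equiv.boolProdEquivSum (Fin d)).symm.trans (finTwoEquiv.symm.prodCongr (Equiv.refl _)))
    refine ⟨C, Matrix.diagonal ![s, -s], by simp [← hs], ?_⟩
    have hC : ∀ q : Fin 2 × Fin d, T (C q) = (![s, -s] q.1 * 1) • C q := by
      rintro ⟨c, j⟩
      fin_cases c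
      · simp [C, Equiv.boolProdEquivSum, finTwoEquiv, show T ((Module.finBasisOfFinrankEq F K1 hd1) j : Fin d ⊕ Fin d → F) =
          s • ((Module.finBasisOfFinrankEq F K1 hd1) j : Fin d ⊕ Fin d → F) from
            sub_eq_zero.mp ((Module.finBasisOfFinrankEq F K1 hd1) j).2]
      · simp [C, Equiv.boolProdEquivSum, finTwoEquiv, show T ((Module.finBasisOfFinrankEq F K2 hd2) j : Fin d ⊕ Fin d → F) =
          (-s) • ((Module.finBasisOfFinrankEq F K2 hd2) j : Fin d ⊕ Fin d → F) from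
            sub_eq_zero.mp ((Module.finBasisOfFinrankEq F K2 hd2) j).2]
    rw [toMatrix_diag' C T _ hC, ← Matrix.diagonal_one, Matrix.diagonal_kronecker_diagonal]
  · have hg : Irreducible ((X : F[X]) ^ 2 - Polynomial.C (-1)) :=
      X_pow_sub_C_irreducible_of_prime Nat.prime_two fun c h => hsq ⟨c, by rw [← h, pow_two]⟩
    obtain ⟨N, w, B1, hdim, hB1⟩ := CfsgLib.MaxSub.Elusive.orbit_basis T hg (LinearMap.ext fun v => by
      rw [map_sub, map_pow, aeval_X, aeval_C, pow_two, LinearMap.sub_apply, Module.End.mul_apply, hT2,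
        Module.algebraMap_end_apply, neg_one_smul, sub_self, LinearMap.zero_apply])
    have hdeg : ((X : F[X]) ^ 2 - Polynomial.C (-1)).natDegree = 2 := natDegree_X_pow_sub_C
    rw [hdeg, Module.finrank_pi, Fintype.card_sum, Fintype.card_fin] at hdim
    obtain rfl : N = d := by omega
    let C := B1.reindex ((finCongr hdeg).prodCongr (Equiv.refl _))
    have hC : ∀ (i : Fin 2) k, C (i, k) = (T ^ (i : ℕ)) (w k) := fun i k => by simp [C, hB1]
    have hC0 : ∀ k, T (C (0, k)) = C (1, k) := fun k => by simp [hC]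
    have hC1 : ∀ k, T (C (1, k)) = (-1 : F) • C (0, k) := fun k => by simp [hC, hT2]
    refine ⟨C, !![0, -1; 1, 0], by simp [Matrix.det_fin_two_of], ?_⟩
    ext ⟨i, k⟩ ⟨j, l⟩
    rw [LinearMap.toMatrix_apply, Matrix.kroneckerMap_apply]
    fin_cases j
    · rw [show T (C ((⟨0, by omega⟩ : Fin 2), l)) = C (1, l) from hC0 l, C.repr_self, Finsupp.single_apply]
      fin_cases i <;> simp [Matrix.one_apply, eq_comm]
    · rw [show T (C ((⟨1, by omega⟩ : Fin 2), l)) = (-1 : F) • C (0, l) from hC1 l, map_smul, C.repr_self]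
      fin_cases i <;> simp [Matrix.one_apply, Finsupp.single_apply, eq_comm]; split_ifs <;> simp

theorem formOfGram_id {κ : Type} [Fintype κ] (G : Matrix κ κ F) (x y : κ → F) :
    Cfsg.Geo.formOfGram id G x y = x ⬝ᵥ (G *ᵥ y) := by
  simp [Cfsg.Geo.formOfGram, dotProduct, Matrix.mulVec, Finset.mul_sum, mul_assoc]

/-- The element of the stabiliser given by isometries of the factors. -/
theorem exists_model {b : ℕ} (e : (Fin d ⊕ Fin d) ≃ Fin 2 × Fin b) (P : GL (Fin d ⊕ Fin d) F)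
    {f₁ : (Fin 2 → F) → (Fin 2 → F) → F} {f₂ : (Fin b → F) → (Fin b → F) → F}
    (hS : Cfsg.Geo.IsTensorFormStructure id (Cfsg.sympForm d F) f₁ f₂ e P) (A : GL (Fin 2) F) (D : GL (Fin b) F)
    (hA : (A : Matrix (Fin 2) (Fin 2) F)ᵀ * Cfsg.Geo.gramMatrix f₁ * A = Cfsg.Geo.gramMatrix f₁)
    (hD : (D : Matrix (Fin b) (Fin b) F)ᵀ * Cfsg.Geo.gramMatrix f₂ * D = Cfsg.Geo.gramMatrix f₂) :
    ∃ y : Matrix.symplecticGroup (Fin d) F, glS y ∈ Cfsg.Geo.tensorProductSubgroup 2 b e P ∧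
      IsConj (Matrix.reindex e.symm e.symm ((A : Matrix (Fin 2) (Fin 2) F) ⊗ₖ (D : Matrix (Fin b) (Fin b) F)))
        (y : Matrix (Fin d ⊕ Fin d) (Fin d ⊕ Fin d) F) := by
  classical
  obtain ⟨c, -, hc⟩ := hS
  set M : Matrix (Fin 2 × Fin b) (Fin 2 × Fin b) F := (A : Matrix (Fin 2) (Fin 2) F) ⊗ₖ (D : Matrix (Fin b) (Fin b) F)
  let K : GL (Fin 2 × Fin b) F := ⟨M, ((A⁻¹ : GL (Fin 2) F) : Matrix (Fin 2) (Fin 2) F) ⊗ₖ
      ((D⁻¹ : GL (Fin b) F) : Matrix (Fin b) (Fin b) F),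
    by rw [← Matrix.mul_kronecker_mul, ← Units.val_mul, ← Units.val_mul, mul_inv_cancel, mul_inv_cancel, Units.val_one,
      Units.val_one, Matrix.one_kronecker_one],
    by rw [← Matrix.mul_kronecker_mul, ← Units.val_mul, ← Units.val_mul, inv_mul_cancel, inv_mul_cancel, Units.val_one,
      Units.val_one, Matrix.one_kronecker_one]⟩
  let gy : GL (Fin d ⊕ Fin d) F := P * Cfsg.Geo.glReindex e.symm K * P⁻¹
  have hG : Mᵀ * (Cfsg.Geo.gramMatrix f₁ ⊗ₖ Cfsg.Geo.gramMatrix f₂) * M = Cfsg.Geo.gramMatrix f₁ ⊗ₖ Cfsg.Geo.gramMatrix f₂ := by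
    rw [← Matrix.kroneckerMap_transpose, ← Matrix.mul_kronecker_mul, ← Matrix.mul_kronecker_mul, hA, hD]
  have hmem : gy ∈ Cfsg.spGL d F := fun u v => by
    set Pi' := ((P⁻¹ : GL (Fin d ⊕ Fin d) F) : Matrix (Fin d ⊕ Fin d) (Fin d ⊕ Fin d) F)
    have hu : ∀ u : Fin d ⊕ Fin d → F, u = (P : Matrix (Fin d ⊕ Fin d) (Fin d ⊕ Fin d) F) *ᵥ
        (((Pi' *ᵥ u) ∘ e.symm) ∘ e) := fun u => by
      rw [Function.comp_assoc, Equiv.symm_comp_self, Function.comp_id, Matrix.mulVec_mulVec, ← Units.val_mul,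
        mul_inv_cancel, Units.val_one, Matrix.one_mulVec]
    have hgu : ∀ u : Fin d ⊕ Fin d → F, (gy : Matrix (Fin d ⊕ Fin d) (Fin d ⊕ Fin d) F) *ᵥ u =
        (P : Matrix (Fin d ⊕ Fin d) (Fin d ⊕ Fin d) F) *ᵥ ((M *ᵥ ((Pi' *ᵥ u) ∘ e.symm)) ∘ e) := fun u => by
      show ((P : Matrix (Fin d ⊕ Fin d) (Fin d ⊕ Fin d) F) * Matrix.reindex e.symm e.symm M * Pi') *ᵥ u = _
      rw [← Matrix.mulVec_mulVec, ← Matrix.mulVec_mulVec, Matrix.reindex_apply, Equiv.symm_symm, Matrix.submatrix_mulVec_equiv]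
    show Cfsg.sympForm d F ((gy : Matrix (Fin d ⊕ Fin d) (Fin d ⊕ Fin d) F) *ᵥ u) ((gy : Matrix (Fin d ⊕ Fin d) (Fin d ⊕ Fin d) F) *ᵥ v) = _
    rw [hgu, hgu, hc]
    conv_rhs => rw [hu u, hu v, hc]
    rw [formOfGram_id, formOfGram_id, ← Matrix.vecMul_transpose M ((Pi' *ᵥ u) ∘ e.symm), ← Matrix.dotProduct_mulVec,
      Matrix.mulVec_mulVec, Matrix.mulVec_mulVec, hG]
  obtain ⟨y, hy⟩ := exists_glS hmem
  refine ⟨y, hy ▸ ⟨_, ⟨K, ⟨A, D, rfl⟩, rfl⟩, rfl⟩, ⟨P, ?_⟩⟩
  rw [SemiconjBy]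
  have h1 : (y : Matrix (Fin d ⊕ Fin d) (Fin d ⊕ Fin d) F) = (gy : Matrix (Fin d ⊕ Fin d) (Fin d ⊕ Fin d) F) :=
    congrArg Units.val hy
  rw [h1, ← Units.val_mul]
  show _ = ((P * Cfsg.Geo.glReindex e.symm K * P⁻¹ * P : GL (Fin d ⊕ Fin d) F) : Matrix (Fin d ⊕ Fin d) (Fin d ⊕ Fin d) F)
  rw [inv_mul_cancel_right, Units.val_mul]
  rfl

/-- Involutions are conjugate into the stabiliser. -/
theorem symp_involution_mem {b : ℕ} (e : (Fin d ⊕ Fin d) ≃ Fin 2 × Fin b) (P : GL (Fin d ⊕ Fin d) F) (hab : 2 * d = 2 * b)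
    (hd : 0 < d) (h2 : p ≠ 2) {f₁ : (Fin 2 → F) → (Fin 2 → F) → F} {f₂ : (Fin b → F) → (Fin b → F) → F}
    (hf₁ : Cfsg.Geo.IsSymplecticForm f₁) (hf₂ : Cfsg.Geo.IsSymmetricForm f₂)
    (hS : Cfsg.Geo.IsTensorFormStructure id (Cfsg.sympForm d F) f₁ f₂ e P) (x : GL (Fin d ⊕ Fin d) F)
    (hx : x ∈ Cfsg.spGL d F) {z : F}
    (hz : ((x ^ 2 : GL (Fin d ⊕ Fin d) F) : Matrix (Fin d ⊕ Fin d) (Fin d ⊕ Fin d) F) = z • 1) :
    ∃ g ∈ Cfsg.spGL d F, g⁻¹ * x * g ∈ Cfsg.Geo.tensorProductSubgroup 2 b e P := by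
  classical
  obtain rfl : b = d := by omega
  obtain ⟨x₀, rfl⟩ := exists_glS hx
  have hx2 : (x₀ : Matrix (Fin b ⊕ Fin b) (Fin b ⊕ Fin b) F) ^ 2 = z • 1 := hz
  have h20 : (2 : F) ≠ 0 := fun h => by
    have h' : ((2 : ℕ) : F) = 0 := by exact_mod_cast h
    rw [CharP.cast_eq_zero_iff F p] at h'
    exact h2 ((Nat.prime_dvd_prime_iff_eq Fact.out Nat.prime_two).mp h')
  have hz2 : z * z = 1 := CfsgLib.PrimeIso.symp_scalar_sq hd (x₀ ^ 2) (by rw [SubmonoidClass.coe_pow]; exact hx2)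
  have hord : (orderOf x₀).Coprime p := by
    have h4 : x₀ ^ 4 = 1 := Subtype.ext (by
      rw [SubmonoidClass.coe_pow, show (4 : ℕ) = 2 * 2 from rfl, pow_mul, hx2, _root_.smul_pow, one_pow, pow_two, hz2,
        one_smul]
      rfl)
    refine Nat.Coprime.coprime_dvd_left (orderOf_dvd_of_pow_eq_one h4) ?_
    rw [show (4 : ℕ) = 2 ^ 2 from rfl]
    exact Nat.Coprime.pow_left _ ((Nat.coprime_primes Nat.prime_two Fact.out).mpr h2.symm)
  suffices ∃ y : Matrix.symplecticGroup (Fin b) F, glS y ∈ Cfsg.Geo.tensorProductSubgroup 2 b e P ∧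
      IsConj (x₀ : Matrix (Fin b ⊕ Fin b) (Fin b ⊕ Fin b) F) (y : Matrix (Fin b ⊕ Fin b) (Fin b ⊕ Fin b) F) by
    obtain ⟨y, hy, hxy⟩ := this
    obtain ⟨c, hc⟩ := isConj_iff.mp (CfsgLib.SemisimpleIso.symp_isConj hord hxy)
    refine ⟨glS c⁻¹, glS_mem _, ?_⟩
    rwa [← map_inv, inv_inv, ← map_mul, ← map_mul, hc]
  set G₁ := Cfsg.Geo.gramMatrix f₁
  set G₂ := Cfsg.Geo.gramMatrix f₂
  rcases mul_self_eq_one_iff.mp hz2 with rfl | rfl
  · rw [one_smul] at hx2
    obtain ⟨C, sg, hsg, hC⟩ := exists_basis_invol h20 x₀ hx2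
    have hI : Invertible (2 : F) := invertibleOfNonzero h20
    obtain ⟨w, Q, hQ, hQG⟩ := CfsgLib.FiniteForms.exists_diag G₂ (Matrix.IsSymm.ext fun i j => hf₂.symm _ _)
    let Qu : GL (Fin b) F := Matrix.GeneralLinearGroup.mkOfDetNeZero Q hQ
    let S : GL (Fin b) F := ⟨Matrix.diagonal sg, Matrix.diagonal sg,
      by rw [Matrix.diagonal_mul_diagonal]; simp [hsg], by rw [Matrix.diagonal_mul_diagonal]; simp [hsg]⟩
    obtain ⟨y, hy, hyc⟩ := exists_model e P hS 1 (Qu * S * Qu⁻¹) (by simp) (by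
      have hQQ : (Qu : Matrix (Fin b) (Fin b) F) * ((Qu⁻¹ : GL (Fin b) F) : Matrix (Fin b) (Fin b) F) = 1 := by
        rw [← Units.val_mul, mul_inv_cancel, Units.val_one]
      set Qi := ((Qu⁻¹ : GL (Fin b) F) : Matrix (Fin b) (Fin b) F)
      have hQQ' : Q * Qi = 1 := hQQ
      show (Q * Matrix.diagonal sg * Qi)ᵀ * G₂ * (Q * Matrix.diagonal sg * Qi) = G₂
      calc (Q * Matrix.diagonal sg * Qi)ᵀ * G₂ * (Q * Matrix.diagonal sg * Qi)
          = Qiᵀ * (Matrix.diagonal sg * (Qᵀ * G₂ * Q) * Matrix.diagonal sg) * Qi := by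
            simp only [Matrix.transpose_mul, Matrix.diagonal_transpose, Matrix.mul_assoc]
        _ = Qiᵀ * (Qᵀ * G₂ * Q) * Qi := by
            rw [hQG, Matrix.diagonal_mul_diagonal, Matrix.diagonal_mul_diagonal]
            rw [show (fun i => sg i * w i * sg i) = w from
              funext fun j => by rw [mul_comm (sg j) (w j), mul_assoc, hsg, mul_one]]
        _ = (Q * Qi)ᵀ * G₂ * (Q * Qi) := by simp only [Matrix.transpose_mul, Matrix.mul_assoc]
        _ = G₂ := by rw [hQQ', Matrix.transpose_one, Matrix.one_mul, Matrix.mul_one])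
    refine ⟨y, hy, (isConj_of_basis e _ C _ hC).trans (IsConj.trans ?_ hyc)⟩
    let K₀ : GL (Fin 2 × Fin b) F := ⟨(1 : Matrix (Fin 2) (Fin 2) F) ⊗ₖ (Qu : Matrix (Fin b) (Fin b) F),
      (1 : Matrix (Fin 2) (Fin 2) F) ⊗ₖ ((Qu⁻¹ : GL (Fin b) F) : Matrix (Fin b) (Fin b) F),
      by rw [← Matrix.mul_kronecker_mul, one_mul, ← Units.val_mul, mul_inv_cancel, Units.val_one, Matrix.one_kronecker_one],
      by rw [← Matrix.mul_kronecker_mul, one_mul, ← Units.val_mul, inv_mul_cancel, Units.val_one, Matrix.one_kronecker_one]⟩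
    refine ⟨Cfsg.Geo.glReindex e.symm K₀, ?_⟩
    rw [SemiconjBy]
    show Matrix.reindexAlgEquiv F F e.symm ((1 : Matrix (Fin 2) (Fin 2) F) ⊗ₖ (Qu : Matrix (Fin b) (Fin b) F)) *
        Matrix.reindexAlgEquiv F F e.symm _ = Matrix.reindexAlgEquiv F F e.symm _ * Matrix.reindexAlgEquiv F F e.symm _
    rw [← map_mul, ← map_mul, Units.val_one, ← Matrix.mul_kronecker_mul, ← Matrix.mul_kronecker_mul, ← Units.val_mul,
      show Qu * S * Qu⁻¹ * Qu = Qu * S by group]
    rfl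
  · obtain ⟨C, A, hA, hC⟩ := exists_basis_neg h20 x₀ hx2
    obtain ⟨y, hy, hyc⟩ := exists_model e P hS (Matrix.GeneralLinearGroup.mkOfDetNeZero A (by rw [hA]; exact one_ne_zero)) 1
      (by
        show Aᵀ * G₁ * A = G₁
        have h01 : G₁ 1 0 = -G₁ 0 1 := hf₁.skew _ _
        have h00 : ∀ i, G₁ i i = 0 := fun i => hf₁.alternating _
        rw [Matrix.det_fin_two] at hA
        ext i j
        fin_cases i <;> fin_cases j <;> simp [Matrix.mul_apply, Fin.sum_univ_two, h00, h01]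
        · ring
        · linear_combination G₁ 0 1 * hA
        · linear_combination -(G₁ 0 1) * hA
        · ring)
      (by simp)
    exact ⟨y, hy, (isConj_of_basis e _ C _ hC).trans hyc⟩

end CfsgLib.TensorElusive
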