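/-
Involutions inside the stabiliser of a tensor decomposition with a factor of dimension two.
-/
import Cfsg.Agent.Lib.TensorElusive.Rank
import Cfsg.Agent.Lib.MaxSub.ElusiveField

set_option autoImplicit false
set_option linter.unusedSectionVars false

namespace CfsgLib.TensorElusive

open Polynomial Module CfsgLib.MaxSub.Elusive
open scoped Kronecker Matrix

universe u

variable {F : Type u} [Field F] [Fintype F] {n a b : ℕ}

/-- An element with the matrix of a Kronecker product in some basis is conjugate into the stabiliser. -/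
theorem conj_mem_of_basis (e : Fin n ≃ Fin a × Fin b) (P : GL (Fin n) F) (x : GL (Fin n) F)
    (hx : x ∈ Cfsg.Geo.specialLinear (Fin n) F) (C : Basis (Fin a × Fin b) F (Fin n → F)) (A : GL (Fin a) F) (B : GL (Fin b) F)
    (hC : LinearMap.toMatrix C C (Matrix.toLinAlgEquiv' (x : Matrix (Fin n) (Fin n) F)) =
      (A : Matrix (Fin a) (Fin a) F) ⊗ₖ (B : Matrix (Fin b) (Fin b) F))
    (hS : ∀ δ : F, δ ≠ 0 → ∃ S : Module.End F (Fin n → F),
      S * Matrix.toLinAlgEquiv' (x : Matrix (Fin n) (Fin n) F) = Matrix.toLinAlgEquiv' (x : Matrix (Fin n) (Fin n) F) * S ∧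
        LinearMap.det S = δ) :
    ∃ g ∈ Cfsg.Geo.specialLinear (Fin n) F, g⁻¹ * x * g ∈ Cfsg.Geo.tensorProductSubgroup a b e P := by
  classical
  set H := Cfsg.Geo.tensorProductSubgroup a b e P
  let K : GL (Fin a × Fin b) F := ⟨(A : Matrix (Fin a) (Fin a) F) ⊗ₖ (B : Matrix (Fin b) (Fin b) F),
    ((A⁻¹ : GL (Fin a) F) : Matrix (Fin a) (Fin a) F) ⊗ₖ ((B⁻¹ : GL (Fin b) F) : Matrix (Fin b) (Fin b) F),
    by rw [← Matrix.mul_kronecker_mul, ← Units.val_mul, ← Units.val_mul, mul_inv_cancel, mul_inv_cancel, Units.val_one,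
      Units.val_one, Matrix.one_kronecker_one],
    by rw [← Matrix.mul_kronecker_mul, ← Units.val_mul, ← Units.val_mul, inv_mul_cancel, inv_mul_cancel, Units.val_one,
      Units.val_one, Matrix.one_kronecker_one]⟩
  set K' : GL (Fin n) F := Cfsg.Geo.glReindex e.symm K with hK'
  let gY : GL (Fin n) F := P * K' * P⁻¹
  have hgY : gY ∈ H := ⟨K', ⟨K, ⟨A, B, rfl⟩, rfl⟩, rfl⟩
  let X0 : Matrix.SpecialLinearGroup (Fin n) F := ⟨(x : Matrix (Fin n) (Fin n) F), congrArg Units.val hx⟩
  let Bs : Basis (Fin a × Fin b) F (Fin n → F) := (Pi.basisFun F (Fin n)).reindex e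
  let π : (Fin n → F) ≃ₗ[F] (Fin n → F) :=
    Matrix.toLin'OfInv (M := (P : Matrix (Fin n) (Fin n) F)) (M' := ((P⁻¹ : GL (Fin n) F) : Matrix (Fin n) (Fin n) F))
      (by rw [← Units.val_mul, mul_inv_cancel, Units.val_one]) (by rw [← Units.val_mul, inv_mul_cancel, Units.val_one])
  let ψ : (Fin n → F) ≃ₗ[F] (Fin n → F) := Bs.equiv C (Equiv.refl _)
  have hψ : (Matrix.toLinAlgEquiv' (x : Matrix (Fin n) (Fin n) F)).comp ψ.toLinearMap =
      ψ.toLinearMap.comp (Matrix.toLin' (K' : Matrix (Fin n) (Fin n) F)) := Bs.ext fun q => by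
    have h1 : Matrix.toLin' (K' : Matrix (Fin n) (Fin n) F) (Bs q) =
        ∑ q', ((A : Matrix (Fin a) (Fin a) F) ⊗ₖ (B : Matrix (Fin b) (Fin b) F)) q' q • Bs q' := by
      funext i
      rw [hK', Finset.sum_apply, Finset.sum_eq_single (e i)
        (fun q' _ h => by simp [Bs, Pi.basisFun_apply, e.eq_symm_apply, Ne.symm h])
        (fun h => absurd (Finset.mem_univ _) h)]
      simp [Bs, Pi.basisFun_apply, Cfsg.Geo.glReindex, K]
      rw [show (LinearMap.funLeft F F ⇑e.symm) (Pi.single (e.symm q) (1 : F)) = Pi.single q 1 from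
        funext fun j => by simp [LinearMap.funLeft_apply, Pi.single_apply]]
      simp
    rw [LinearMap.comp_apply, LinearMap.comp_apply, h1, map_sum]
    simp only [map_smul, ψ, LinearEquiv.coe_coe, Basis.equiv_apply, Equiv.refl_apply]
    rw [← hC]
    conv_lhs => rw [← C.sum_repr (Matrix.toLinAlgEquiv' (x : Matrix (Fin n) (Fin n) F) (C q))]
    exact Finset.sum_congr rfl fun q' _ => by rw [LinearMap.toMatrix_apply]
  obtain ⟨P0, hP0⟩ := mem_of_intertwine X0 H (Matrix.toLin' (gY : Matrix (Fin n) (Fin n) F)) (π.trans ψ) (fun v => by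
      have h := LinearMap.congr_fun hψ (π v)
      refine h.trans (congrArg ψ ?_)
      show (K' : Matrix (Fin n) (Fin n) F) *ᵥ (((P⁻¹ : GL (Fin n) F) : Matrix (Fin n) (Fin n) F) *ᵥ v) =
        ((P⁻¹ : GL (Fin n) F) : Matrix (Fin n) (Fin n) F) *ᵥ ((gY : Matrix (Fin n) (Fin n) F) *ᵥ v)
      rw [Matrix.mulVec_mulVec, Matrix.mulVec_mulVec, ← Units.val_mul, ← Units.val_mul]
      congr 2
      simp [gY, mul_assoc]) hS (fun g hg => by
    rw [LinearMap.toMatrix'_toLin'] at hg
    rwa [Units.ext hg])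
  refine ⟨Matrix.SpecialLinearGroup.toGL P0, Units.ext P0.2, ?_⟩
  have hX0 : Matrix.SpecialLinearGroup.toGL X0 = x := Units.ext rfl
  rw [Subgroup.mem_comap, map_mul, map_mul, map_inv, hX0] at hP0
  exact hP0

theorem toMatrix_diag {ι : Type} [Fintype ι] [DecidableEq ι] (C : Basis ι F (Fin n → F)) (f : Module.End F (Fin n → F))
    (d : ι → F) (h : ∀ i, f (C i) = d i • C i) : LinearMap.toMatrix C C f = Matrix.diagonal d := by
  ext i j
  rw [LinearMap.toMatrix_apply, h, map_smul, C.repr_self, Finsupp.smul_single, smul_eq_mul, mul_one, Matrix.diagonal_apply,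
    Finsupp.single_apply]
  by_cases hij : i = j
  · subst hij; simp
  · simp [hij, Ne.symm hij]

theorem diag_dets {ι : Type} [Fintype ι] [DecidableEq ι] [Nonempty ι] (C : Basis ι F (Fin n → F))
    (f : Module.End F (Fin n → F)) (d : ι → F) (h : ∀ i, f (C i) = d i • C i) (δ : F) :
    ∃ S : Module.End F (Fin n → F), S * f = f * S ∧ LinearMap.det S = δ := by
  obtain ⟨i0⟩ := ‹Nonempty ι›
  let c : ι → F := fun i => if i = i0 then δ else 1
  let S : Module.End F (Fin n → F) := C.constr F fun i => c i • C i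
  have hS : ∀ i, S (C i) = c i • C i := fun i => C.constr_basis F _ i
  refine ⟨S, C.ext fun i => ?_, ?_⟩
  · rw [Module.End.mul_apply, Module.End.mul_apply, h, hS, map_smul, map_smul, h, hS, smul_comm]
  · rw [← LinearMap.det_toMatrix C, toMatrix_diag C S c hS, Matrix.det_diagonal, Finset.prod_eq_single i0
      (fun i _ hi => if_neg hi) (fun hi => absurd (Finset.mem_univ _) hi)]
    exact if_pos rfl

variable {p : ℕ} [Fact p.Prime] [CharP F p]

theorem involution_mem (e : Fin n ≃ Fin 2 × Fin b) (P : GL (Fin n) F) (hab : n = 2 * b) (hb : 0 < b) (h2 : p ≠ 2)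
    (hv : padicValNat 2 (Fintype.card F - 1) ≤ padicValNat 2 n) (x : GL (Fin n) F)
    (hx : x ∈ Cfsg.Geo.specialLinear (Fin n) F) {z : F}
    (hz : ((x ^ 2 : GL (Fin n) F) : Matrix (Fin n) (Fin n) F) = z • 1) :
    ∃ g ∈ Cfsg.Geo.specialLinear (Fin n) F, g⁻¹ * x * g ∈ Cfsg.Geo.tensorProductSubgroup 2 b e P := by
  classical
  set T := Matrix.toLinAlgEquiv' (x : Matrix (Fin n) (Fin n) F) with hTdef
  have hdet : (x : Matrix (Fin n) (Fin n) F).det = 1 := congrArg Units.val hx
  have hT : T ^ 2 = z • 1 := by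
    rw [hTdef, ← map_pow, ← Units.val_pow_eq_pow_val, hz, map_smul, map_one]
  have hdetT : LinearMap.det T = 1 := (LinearMap.det_toLin' _).trans hdet
  have hn0 : n ≠ 0 := by omega
  have hz0 : z ≠ 0 := by
    rintro rfl
    have := congrArg Matrix.det hz
    have hne : Nonempty (Fin n) := ⟨⟨0, by omega⟩⟩
    rw [Units.val_pow_eq_pow_val, Matrix.det_pow, hdet, one_pow, zero_smul, Matrix.det_zero] at this
    exact one_ne_zero this
  have h20 : (2 : F) ≠ 0 := fun h => by
    have h' : ((2 : ℕ) : F) = 0 := by exact_mod_cast h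
    rw [CharP.cast_eq_zero_iff F p] at h'
    exact h2 ((Nat.prime_dvd_prime_iff_eq Fact.out Nat.prime_two).mp h')
  by_cases hsq : IsSquare z
  · obtain ⟨s, rfl⟩ := hsq
    have hs : s ≠ 0 := fun h => hz0 (by simp [h])
    have hT1 : (s⁻¹ • T) ^ 2 = 1 := by
      rw [_root_.smul_pow, hT, smul_smul]
      convert one_smul F (1 : Module.End F (Fin n → F))
      field_simp
    have hev : Even (finrank F (LinearMap.range (s⁻¹ • T - 1))) := by
      by_contra hodd
      have := le_factor_of_pow_neg_one h20 hn0 hs (pow_of_odd_range T hs hT1 hdetT hodd)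
      omega
    obtain ⟨B1, sg, hsg, hB1⟩ := planes_involution (p := p) hab h2 (s⁻¹ • T) hT1 hev
    let C := B1.reindex (Equiv.prodComm _ _)
    have hCT : ∀ q, T (C q) = (s * sg q.2) • C q := fun q => by
      have h := hB1 q.2 q.1
      rw [LinearMap.smul_apply, inv_smul_eq_iff₀ hs, smul_smul] at h
      simpa [C, Prod.swap] using h
    have hsg0 : ∀ j, s * sg j ≠ 0 := fun j => mul_ne_zero hs fun h => by simpa [h] using hsg j
    refine conj_mem_of_basis e P x hx C 1
      (Matrix.GeneralLinearGroup.mkOfDetNeZero (Matrix.diagonal fun j => s * sg j)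
        (by rw [Matrix.det_diagonal]; exact Finset.prod_ne_zero_iff.mpr fun j _ => hsg0 j)) ?_ ?_
    · refine (toMatrix_diag C T _ hCT).trans ?_
      show _ = ((1 : GL (Fin 2) F) : Matrix (Fin 2) (Fin 2) F) ⊗ₖ Matrix.diagonal fun j => s * sg j
      rw [Units.val_one, ← Matrix.diagonal_one, Matrix.diagonal_kronecker_diagonal]
      simp
    · have : Nonempty (Fin b) := ⟨⟨0, hb⟩⟩
      exact fun δ _ => diag_dets C T _ hCT δ
  · have hg : Irreducible ((X : F[X]) ^ 2 - Polynomial.C z) :=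
      X_pow_sub_C_irreducible_of_prime Nat.prime_two fun c h => hsq ⟨c, by rw [← h, pow_two]⟩
    obtain ⟨N, w, B1, hdim, hB1⟩ := orbit_basis T hg (by
      rw [map_sub, map_pow, aeval_X, aeval_C, hT, Algebra.algebraMap_eq_smul_one, sub_self])
    have hdeg : ((X : F[X]) ^ 2 - Polynomial.C z).natDegree = 2 := natDegree_X_pow_sub_C
    rw [hdeg, Module.finrank_fin_fun] at hdim
    obtain rfl : N = b := by omega
    let C := B1.reindex ((finCongr hdeg).prodCongr (Equiv.refl _))
    have hC : ∀ (i : Fin 2) k, C (i, k) = (T ^ (i : ℕ)) (w k) := fun i k => by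
      simp [C, hB1]
    have hC0 : ∀ k, T (C (0, k)) = C (1, k) := fun k => by simp [hC]
    have hC1 : ∀ k, T (C (1, k)) = z • C (0, k) := fun k => by
      rw [hC, hC, Fin.val_one, Fin.val_zero, pow_one, pow_zero, Module.End.one_apply, ← Module.End.mul_apply,
        ← pow_two, hT, LinearMap.smul_apply, Module.End.one_apply]
    refine conj_mem_of_basis e P x hx C
      (Matrix.GeneralLinearGroup.mkOfDetNeZero !![0, z; 1, 0] (by simp [Matrix.det_fin_two_of, hz0])) 1 ?_ ?_
    · show _ = !![0, z; 1, 0] ⊗ₖ ((1 : GL (Fin N) F) : Matrix (Fin N) (Fin N) F)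
      ext ⟨i, k⟩ ⟨j, l⟩
      rw [LinearMap.toMatrix_apply, ← hTdef, Units.val_one, Matrix.kroneckerMap_apply]
      fin_cases j
      · rw [show T (C ((⟨0, by omega⟩ : Fin 2), l)) = C (1, l) from hC0 l, C.repr_self, Finsupp.single_apply]
        fin_cases i <;> simp [Matrix.one_apply, eq_comm]
      · rw [show T (C ((⟨1, by omega⟩ : Fin 2), l)) = z • C (0, l) from hC1 l, map_smul, C.repr_self]
        fin_cases i <;> simp [Matrix.one_apply, Finsupp.single_apply, eq_comm]
    · exact invol_plane (C.reindex (Equiv.prodComm _ _)) (fun j => by simp only [C.reindex_apply]; exact hC0 j) (fun j => by simp only [C.reindex_apply]; exact hC1 j)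
        hb hz0

end CfsgLib.TensorElusive
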